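import Mathlib.LinearAlgebra.Determinant
import Mathlib.LinearAlgebra.ExteriorPower.Basic
import Mathlib.LinearAlgebra.Matrix.Determinant.Basic
import Mathlib.Tactic.FieldSimp

/-!
Top exterior powers of free modules; change of affine chart for projective space.
-/

set_option autoImplicit false

universe u v

namespace Groth.Agent.PBundle

variable {R : Type u} [CommRing R] {M : Type v} [AddCommGroup M] [Module R M] {n : ℕ}

/-- the top exterior power is spanned by the product of a basis, with determinant as coefficient -/
theorem ιMulti_eq_det_smul (b : Module.Basis (Fin n) R M) (v : Fin n → M) :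
    exteriorPower.ιMulti R n v = b.det v • exteriorPower.ιMulti R n b := by
  suffices h : exteriorPower.ιMulti R n =
      (LinearMap.toSpanSingleton R _ (exteriorPower.ιMulti R n (b : Fin n → M))).compAlternatingMap b.det from
    DFunLike.congr_fun h v
  refine b.ext_alternating fun w hw => ?_
  let σ : Equiv.Perm (Fin n) := Equiv.ofBijective w (Finite.injective_iff_bijective.1 hw)
  change exteriorPower.ιMulti R n (b ∘ σ) = b.det (b ∘ σ) • exteriorPower.ιMulti R n b
  rw [AlternatingMap.map_perm, AlternatingMap.map_perm, b.det_self, Units.smul_def, Units.smul_def,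
    Int.smul_one_eq_cast]
  exact (Int.cast_smul_eq_zsmul R _ _).symm

/-- the product of a basis generates the top exterior power freely -/
theorem bijective_smul_ιMulti (b : Module.Basis (Fin n) R M) :
    Function.Bijective fun a : R => a • exteriorPower.ιMulti R n b := by
  constructor
  · intro a a' h
    have h' := congrArg (exteriorPower.alternatingMapLinearEquiv b.det) h
    simpa only [map_smul, exteriorPower.alternatingMapLinearEquiv_apply_ιMulti, b.det_self, smul_eq_mul, mul_one]
      using h'
  · intro y
    have hy : y ∈ LinearMap.range (LinearMap.toSpanSingleton R _ (exteriorPower.ιMulti R n (b : Fin n → M))) := by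
      have : (⊤ : Submodule R (⋀[R]^n M)) ≤
          LinearMap.range (LinearMap.toSpanSingleton R _ (exteriorPower.ιMulti R n (b : Fin n → M))) := by
        rw [← exteriorPower.ιMulti_span, Submodule.span_le]
        rintro _ ⟨v, rfl⟩
        exact ⟨b.det v, (ιMulti_eq_det_smul b v).symm⟩
      exact this Submodule.mem_top
    obtain ⟨a, ha⟩ := hy
    exact ⟨a, ha⟩

/-- change of affine chart: the jacobian of `c ↦ c / u` up to sign is `u ^ -(n+1)` -/
theorem chart_det (c c' : Fin (n + 1) → R) (u : R) (k j : Fin (n + 1)) (hck : c k = 1) (hc'j : c' j = 1)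
    (hcu : ∀ l, c' l * u = c l) (X X' : Fin (n + 1) → Fin n → R) (hXk : ∀ i, X k i = 0)
    (hX : ∀ i i', X (k.succAbove i) i' = if i = i' then 1 else 0) (hX'j : ∀ i, X' j i = 0)
    (hX' : ∀ l i, u * X' l i = X l i - c' l * X j i) :
    u ^ (n + 1) * ((-1 : R) ^ (j : ℕ) * Matrix.det (Matrix.of fun i i' => X' (j.succAbove i) i')) =
      (-1 : R) ^ (k : ℕ) := by
  classical
  have hu : c' k * u = 1 := (hcu k).trans hck
  have huu : IsUnit u := IsUnit.of_mul_eq_one_right _ hu
  let B : Matrix (Fin (n + 1)) (Fin (n + 1)) R := Matrix.of fun l => Fin.cons (c l) (X l)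
  let B' : Matrix (Fin (n + 1)) (Fin (n + 1)) R := Matrix.of fun l => Fin.cons (c' l) (X' l)
  have key : ∀ (Y : Fin (n + 1) → Fin n → R) (e : Fin (n + 1) → R) (l₀ : Fin (n + 1)), e l₀ = 1 →
      (∀ i, Y l₀ i = 0) → Matrix.det (Matrix.of fun l => Fin.cons (e l) (Y l) : Matrix (Fin (n+1)) (Fin (n+1)) R) =
        (-1 : R) ^ (l₀ : ℕ) * Matrix.det (Matrix.of fun i i' => Y (l₀.succAbove i) i') := by
    intro Y e l₀ he hY
    rw [Matrix.det_succ_row _ l₀, Fin.sum_univ_succ]
    have h0 : ∀ i : Fin n, (Matrix.of fun l => Fin.cons (e l) (Y l) : Matrix (Fin (n+1)) (Fin (n+1)) R) l₀ i.succ = 0 :=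
      fun i => by simp [hY]
    simp only [h0, mul_zero, zero_mul, Finset.sum_const_zero, add_zero]
    simp only [Matrix.of_apply, Fin.cons_zero, he, mul_one, Fin.val_zero, Nat.add_zero]
    congr 2
  have hk : Matrix.det B = (-1 : R) ^ (k : ℕ) := by
    rw [key X c k hck hXk, show (Matrix.of fun i i' => X (k.succAbove i) i') = (1 : Matrix (Fin n) (Fin n) R) from
      Matrix.ext fun i i' => by simp [hX, Matrix.one_apply], Matrix.det_one, mul_one]
  have hj := key X' c' j hc'j hX'j
  have hop : Matrix.det (u • B').transpose = Matrix.det B.transpose := by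
    refine Matrix.det_eq_of_forall_row_eq_smul_add_const
      (Fin.cons 0 fun i => -(c' k) * X j i) 0 (Fin.cons_zero _ _) fun i l => ?_
    cases i using Fin.cases with
    | zero => simp [B, B', mul_comm u, hcu]
    | succ i =>
      simp only [B, B', Matrix.transpose_apply, Matrix.smul_apply, Matrix.of_apply, Fin.cons_succ, Fin.cons_zero,
        smul_eq_mul]
      have e1 : c' k * c l = c' l := by rw [← hcu l, mul_left_comm, hu, mul_one]
      rw [hX' l i, sub_eq_add_neg]
      congr 1
      rw [← e1]
      ring
  rw [Matrix.det_transpose, Matrix.det_transpose, Matrix.det_smul, Fintype.card_fin, hk, hj] at hop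
  exact hop

end Groth.Agent.PBundle
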