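import Groth.Agent.ProjMor.Over
import Groth.Agent.QC.PullSect
import Groth.Agent.InvGen.Basic
import Groth.Agent.TMul.AffineLocus
import Groth.Prelude.Def_KRR

/-!
Maps out of inverse images of free modules, by the images of the basis sections.
-/

set_option autoImplicit false
set_option linter.style.haveILetI false
set_option backward.isDefEq.respectTransparency false
set_option backward.isDefEq.respectTransparency.types false

universe u

open CategoryTheory CategoryTheory.Limits AlgebraicGeometry TopologicalSpace Opposite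
open Groth.Agent.QC (res res_res app_res)

noncomputable section

namespace Groth.Agent.PBundle

variable {S T T' : Scheme.{u}} {m : ℕ} {L L' : T.Modules}

/-- the basis sections of a free module -/
def bv (S : Scheme.{u}) (i : Fin m) : ProjUP.Γm (FlatMod.freeMod S m) :=
  TMul.val (Sigma.ι (fun _ : Fin m => Coh.structureModule S) i) ⊤

/-- the value of a map out of the inverse image of a free module on a basis section -/
def sec (g : T ⟶ S) (s : (Scheme.Modules.pullback g).obj (FlatMod.freeMod S m) ⟶ L) (i : Fin m) : ProjUP.Γm L :=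
  s.app ⊤ (ProjUP.pullSec g (FlatMod.freeMod S m) (bv S i))

lemma sec_comp (g : T ⟶ S) (s : (Scheme.Modules.pullback g).obj (FlatMod.freeMod S m) ⟶ L) (φ : L ⟶ L') (i : Fin m) :
    sec g (s ≫ φ) i = φ.app ⊤ (sec g s i) := rfl

/-- maps out of the inverse image of a free module are determined by the basis sections -/
theorem ext_sec (g : T ⟶ S) {a b : (Scheme.Modules.pullback g).obj (FlatMod.freeMod S m) ⟶ L}
    (h : ∀ i, sec g a i = sec g b i) : a = b := by
  refine ((Scheme.Modules.pullbackPushforwardAdjunction g).homEquiv _ _).injective (Sigma.hom_ext _ _ fun i => ?_)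
  exact TMul.hom_ext_val (h i)

/-- the map out of the inverse image of a free module with given values on the basis sections -/
def mk (g : T ⟶ S) (σ : Fin m → ProjUP.Γm L) : (Scheme.Modules.pullback g).obj (FlatMod.freeMod S m) ⟶ L :=
  ((Scheme.Modules.pullbackPushforwardAdjunction g).homEquiv _ _).symm
    (Sigma.desc fun i => TMul.homOf (L := (Scheme.Modules.pushforward g).obj L) (σ i))

lemma sec_mk (g : T ⟶ S) (σ : Fin m → ProjUP.Γm L) (i : Fin m) : sec g (mk g σ) i = σ i := by
  let F : FlatMod.freeMod S m ⟶ (Scheme.Modules.pushforward g).obj L :=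
    Sigma.desc fun i => TMul.homOf (L := (Scheme.Modules.pushforward g).obj L) (σ i)
  have h1 : (Scheme.Modules.pullbackPushforwardAdjunction g).homEquiv _ _ (mk g σ) = F := Equiv.apply_symm_apply _ _
  rw [Adjunction.homEquiv_unit] at h1
  have h2 : Sigma.ι (fun _ : Fin m => Coh.structureModule S) i ≫ F =
      TMul.homOf (L := (Scheme.Modules.pushforward g).obj L) (σ i) := Sigma.ι_desc _ _
  have h3 : sec g (mk g σ) i = F.app ⊤ (bv S i) :=
    congrArg (fun φ : FlatMod.freeMod S m ⟶ (Scheme.Modules.pushforward g).obj L => φ.app ⊤ (bv S i)) h1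
  rw [h3]
  exact (congrArg (fun φ : Coh.structureModule S ⟶ (Scheme.Modules.pushforward g).obj L => TMul.val φ ⊤) h2).trans
    ((TMul.val_homOf _ ⊤).trans (Groth.Agent.QC.res_self _ _ _))

/-- base change of a quotient, on basis sections -/
theorem sec_bc {π : T' ⟶ S} {O : T'.Modules} (q : (Scheme.Modules.pullback π).obj (FlatMod.freeMod S m) ⟶ O)
    (h : T ⟶ T') {g : T ⟶ S} (hg : h ≫ π = g) (e : (Scheme.Modules.pullback h).obj O ⟶ L) (i : Fin m) :
    sec g ((Scheme.Modules.pullbackCongr hg).inv.app (FlatMod.freeMod S m) ≫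
      (Scheme.Modules.pullbackComp h π).inv.app (FlatMod.freeMod S m) ≫ (Scheme.Modules.pullback h).map q ≫ e) i =
      e.app ⊤ (ProjUP.pullSec h O (sec π q i)) := by
  subst hg
  let M := FlatMod.freeMod S m
  let t : Γ(M, ⊤) := bv S i
  have h0 : ((Scheme.Modules.pullbackCongr (rfl : h ≫ π = h ≫ π)).inv.app M).app ⊤
      (OmegaSh.pullSect (h ≫ π) M ⊤ t) = OmegaSh.pullSect (h ≫ π) M ⊤ t := by
    simp [Scheme.Modules.pullbackCongr]
  have h1 : ((Scheme.Modules.pullbackComp h π).inv.app M).app ⊤ (OmegaSh.pullSect (h ≫ π) M ⊤ t) =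
      OmegaSh.pullSect h ((Scheme.Modules.pullback π).obj M) ⊤ (OmegaSh.pullSect π M ⊤ t) := by
    rw [← QC.pullbackComp_hom_pullSect h π M ⊤ t]
    exact congr(($((Scheme.Modules.pullbackComp h π).hom_inv_id_app M)).app (⊤ : T.Opens) _)
  have h2 := QC.app_pullSect h q (⊤ : T'.Opens) (OmegaSh.pullSect π M ⊤ t)
  change e.app ⊤ (((Scheme.Modules.pullback h).map q).app ⊤ (((Scheme.Modules.pullbackComp h π).inv.app M).app ⊤
    (((Scheme.Modules.pullbackCongr (rfl : h ≫ π = h ≫ π)).inv.app M).app ⊤ (OmegaSh.pullSect (h ≫ π) M ⊤ t)))) = _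
  rw [h0, h1]
  exact congrArg (e.app ⊤) h2

/-- the inverse image of a free module is generated by the basis sections -/
def gen (g : T ⟶ S) : FlatMod.freeMod T m ⟶ (Scheme.Modules.pullback g).obj (FlatMod.freeMod S m) :=
  Sigma.desc fun i => TMul.homOf (ProjUP.pullSec g (FlatMod.freeMod S m) (bv S i))

instance epi_gen (g : T ⟶ S) : Epi (gen (m := m) g) := by
  refine ⟨fun {Z} a b hab => ext_sec g fun i => ?_⟩
  have := congrArg (fun φ : Coh.structureModule T ⟶ Z => TMul.val φ ⊤)
    (congrArg (fun ψ => Sigma.ι (fun _ : Fin m => Coh.structureModule T) i ≫ ψ) hab)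
  simp only [gen, ← Category.assoc, Sigma.ι_desc] at this
  change a.app ⊤ (TMul.val (TMul.homOf (ProjUP.pullSec g _ (bv S i))) ⊤) =
    b.app ⊤ (TMul.val (TMul.homOf (ProjUP.pullSec g _ (bv S i))) ⊤) at this
  rwa [TMul.val_homOf, Groth.Agent.QC.res_self] at this

/-- quotients are generated by the values on the basis sections -/
theorem generatedBy_of_epi (g : T ⟶ S) (s : (Scheme.Modules.pullback g).obj (FlatMod.freeMod S m) ⟶ L) [Epi s] :
    ProjUP.GeneratedBy L (sec g s) := by
  classical
  intro x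
  refine eq_top_iff.2 fun z _ => ?_
  let φ := gen g ≫ s
  haveI : Epi φ := epi_comp _ _
  let δ : Fin m → (FlatMod.freeMod T m ⟶ Coh.structureModule T) := fun i =>
    Sigma.desc fun j => if j = i then 𝟙 _ else 0
  have hid : (∑ i, δ i ≫ Sigma.ι (fun _ : Fin m => Coh.structureModule T) i) = 𝟙 (FlatMod.freeMod T m) := by
    refine Sigma.hom_ext _ _ fun j => ?_
    rw [Preadditive.comp_sum, Finset.sum_eq_single j]
    · simp [δ]
    · intro i _ hij
      simp [δ, Ne.symm hij]
    · simp
  have hsur := (ModuleCat.epi_iff_surjective ((DerSch.stalkFunctor T x).map φ)).1 inferInstance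
  obtain ⟨y, rfl⟩ := hsur z
  obtain ⟨W, hxW, y, rfl⟩ := TopCat.Presheaf.exists_germ_eq (C := Ab.{u}) (FlatMod.freeMod T m).presheaf (x := x) y
  have e1 : Algz.stalkMapAb φ x ((FlatMod.freeMod T m).presheaf.germ W x hxW y) =
      L.presheaf.germ W x hxW (φ.app W y) :=
    TopCat.Presheaf.stalkFunctor_map_germ_apply W x hxW φ.mapPresheaf y
  change Algz.stalkMapAb φ x ((FlatMod.freeMod T m).presheaf.germ W x hxW y) ∈ _
  rw [e1]
  let ev : (FlatMod.freeMod T m ⟶ L) →+ Γ(L, W) := AddMonoidHom.mk' (fun ψ => ψ.app W y) fun _ _ => rfl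
  have hy : φ.app W y = ∑ i, (show Γ(T, W) from (δ i).app W y) • res L le_top (sec g s i) := by
    rw [show φ = ∑ i, δ i ≫ Sigma.ι (fun _ : Fin m => Coh.structureModule T) i ≫ φ by
      conv_lhs => rw [← Category.id_comp φ, ← hid, Preadditive.sum_comp]
      exact Finset.sum_congr rfl fun i _ => Category.assoc _ _ _]
    refine (map_sum ev _ _).trans (Finset.sum_congr rfl fun i _ => ?_)
    change (Sigma.ι (fun _ : Fin m => Coh.structureModule T) i ≫ φ).app W ((δ i).app W y) = _
    have hι : Sigma.ι (fun _ : Fin m => Coh.structureModule T) i ≫ φ =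
        TMul.homOf (ProjUP.pullSec g (FlatMod.freeMod S m) (bv S i)) ≫ s := by
      simp only [φ, gen, ← Category.assoc, Sigma.ι_desc]
    rw [hι]
    refine (TMul.app_eq_smul _ _).trans ?_
    congr 1
    rw [TMul.val_comp, TMul.val_homOf]
    exact (app_res s _ _).symm
  rw [hy, map_sum]
  refine Submodule.sum_mem _ fun i _ => ?_
  change ProjMor.gs L hxW ((show Γ(T, W) from (δ i).app W y) • res L le_top (sec g s i)) ∈ _
  rw [ProjMor.gs_smul, ProjMor.gs_res le_top hxW]
  exact Submodule.smul_mem _ _ (Submodule.subset_span ⟨i, rfl⟩)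

/-- maps with generating values are epimorphisms -/
theorem epi_of_generatedBy (g : T ⟶ S) (s : (Scheme.Modules.pullback g).obj (FlatMod.freeMod S m) ⟶ L)
    (hL : PicF.IsInvertible L) (h : ProjUP.GeneratedBy L (sec g s)) : Epi s := by
  refine InvGen.epi_of_locally s fun U t x hx => ?_
  obtain ⟨i, hi⟩ := ProjMor.exists_mem_genLocus hL (sec g s) h x
  let V := U ⊓ CohB1.genLocus L (TMul.homOf (sec g s i))
  obtain ⟨c, hc⟩ := (ProjMor.isGen_homOf (sec g s i) V inf_le_right).2 (res L inf_le_left t)
  simp only [res_res] at hc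
  refine ⟨V, inf_le_left, ⟨hx, hi⟩, c • res _ le_top (ProjUP.pullSec g (FlatMod.freeMod S m) (bv S i)), ?_⟩
  rw [TMul.app_smul, ← app_res]
  exact hc

end Groth.Agent.PBundle

end
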