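import Groth.Agent.PBundle.Euler
import Groth.Agent.PBundle.DetCalc
import Groth.Agent.PBundle.Sec
import Groth.Agent.TMul.Pullback
import Groth.Prelude.Def_ExtPow2
import Groth.Prelude.Def_ClSub2

/-!
The top exterior power of the differentials of the projective bundle of a free module.
-/

set_option autoImplicit false
set_option linter.style.haveILetI false
set_option backward.isDefEq.respectTransparency false
set_option backward.isDefEq.respectTransparency.types false

universe u

open CategoryTheory CategoryTheory.Limits AlgebraicGeometry TopologicalSpace Opposite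
open Groth.Agent.QC (res resO res_res res_smul resO_resO app_res)
open Groth.Agent.WeakAssLib (mgerm mgerm_smul mgerm_res)

noncomputable section

namespace Groth.Agent.PBundle

variable {S P : Scheme.{u}} {n : ℕ}

/-- the standard sections of a free module form a frame over every open -/
theorem isFrame_bv (S : Scheme.{u}) (m : ℕ) : TMul.IsFrame (N := FlatMod.freeMod S m) (U := ⊤) (bv S) := by
  classical
  let δ : Fin m → (FlatMod.freeMod S m ⟶ Coh.structureModule S) := fun i =>
    Sigma.desc fun j => if j = i then 𝟙 _ else 0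
  have hid : (∑ i, δ i ≫ Sigma.ι (fun _ : Fin m => Coh.structureModule S) i) = 𝟙 (FlatMod.freeMod S m) := by
    refine Sigma.hom_ext _ _ fun j => ?_
    rw [Preadditive.comp_sum, Finset.sum_eq_single j]
    · simp [δ]
    · intro i _ hij
      simp [δ, Ne.symm hij]
    · simp
  have hι : ∀ (i : Fin m) (V : S.Opens) (c : Γ(S, V)),
      (Sigma.ι (fun _ : Fin m => Coh.structureModule S) i).app V c = c • res (FlatMod.freeMod S m) le_top (bv S i) :=
    fun i V c => by rw [TMul.app_eq_smul, bv, TMul.res_val]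
  have hsurj : ∀ (V : S.Opens) (s : Γ(FlatMod.freeMod S m, V)),
      ∑ i, (show Γ(S, V) from (δ i).app V s) • res (FlatMod.freeMod S m) le_top (bv S i) = s := fun V s => by
    let ev : (FlatMod.freeMod S m ⟶ FlatMod.freeMod S m) →+ Γ(FlatMod.freeMod S m, V) :=
      AddMonoidHom.mk' (fun ψ => ψ.app V s) fun _ _ => rfl
    refine Eq.trans ?_ (congrArg ev hid)
    rw [map_sum]
    exact Finset.sum_congr rfl fun i _ => (hι i V _).symm
  have hδ : ∀ (i j : Fin m) (V : S.Opens),
      (δ i).app V (res (FlatMod.freeMod S m) le_top (bv S j)) =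
        (show Γ(Coh.structureModule S, V) from if j = i then (1 : Γ(S, V)) else 0) := fun i j V => by
    have h1 := hι j V 1
    rw [one_smul] at h1
    rw [← h1]
    have h2 : Sigma.ι (fun _ : Fin m => Coh.structureModule S) j ≫ δ i = if j = i then 𝟙 _ else 0 :=
      Sigma.ι_desc _ _
    refine (congrArg (fun ψ : Coh.structureModule S ⟶ Coh.structureModule S => ψ.app V (1 : Γ(S, V))) h2).trans ?_
    split <;> rfl
  have hinj : ∀ (V : S.Opens) (a : Fin m → Γ(S, V)) (i : Fin m),
      (δ i).app V (∑ j, a j • res (FlatMod.freeMod S m) le_top (bv S j)) = (show Γ(Coh.structureModule S, V) from a i) := by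
    intro V a i
    rw [map_sum, Finset.sum_eq_single i]
    · rw [TMul.app_smul, hδ, if_pos rfl]
      exact mul_one (a i)
    · intro j _ hji
      rw [TMul.app_smul, hδ, if_neg hji]
      exact mul_zero (a j)
    · simp
  intro x hx
  constructor
  · intro c c' h
    choose W hW a ha using fun i => S.presheaf.exists_germ_eq (x := x) (c i)
    choose W' hW' a' ha' using fun i => S.presheaf.exists_germ_eq (x := x) (c' i)
    let V : S.Opens := Finset.univ.inf W ⊓ Finset.univ.inf W'
    have hxV : x ∈ V := by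
      refine ⟨?_, ?_⟩
      · have : x ∈ ((Finset.univ.inf W : S.Opens) : Set S) := by
          rw [Opens.coe_finset_inf, Finset.inf_set_eq_iInter, Set.mem_iInter₂]
          exact fun i _ => hW i
        exact this
      · have : x ∈ ((Finset.univ.inf W' : S.Opens) : Set S) := by
          rw [Opens.coe_finset_inf, Finset.inf_set_eq_iInter, Set.mem_iInter₂]
          exact fun i _ => hW' i
        exact this
    let b : Fin m → Γ(S, V) := fun i => resO S (inf_le_left.trans (Finset.inf_le (Finset.mem_univ i))) (a i)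
    let b' : Fin m → Γ(S, V) := fun i => resO S (inf_le_right.trans (Finset.inf_le (Finset.mem_univ i))) (a' i)
    have hb : ∀ i, (S.presheaf.germ V x hxV).hom (b i) = c i := fun i =>
      (TopCat.Presheaf.germ_res_apply S.presheaf _ x hxV (a i)).trans (ha i)
    have hb' : ∀ i, (S.presheaf.germ V x hxV).hom (b' i) = c' i := fun i =>
      (TopCat.Presheaf.germ_res_apply S.presheaf _ x hxV (a' i)).trans (ha' i)
    have e : mgerm _ hxV (∑ i, b i • res (FlatMod.freeMod S m) le_top (bv S i)) =
        mgerm _ hxV (∑ i, b' i • res (FlatMod.freeMod S m) le_top (bv S i)) := by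
      rw [TMul.germ_comb (le_top : V ≤ ⊤), TMul.germ_comb (le_top : V ≤ ⊤)]
      simp only [hb, hb']
      exact h
    obtain ⟨V', hxV', i₁, i₂, heq⟩ := TopCat.Presheaf.germ_eq (FlatMod.freeMod S m).presheaf x hxV hxV _ _ e
    have heq' : res _ i₁.le (∑ i, b i • res (FlatMod.freeMod S m) le_top (bv S i)) =
        res _ i₁.le (∑ i, b' i • res (FlatMod.freeMod S m) le_top (bv S i)) := heq
    simp only [map_sum, res_smul, res_res] at heq'
    funext i
    have h3 := congrArg ((δ i).app V') heq'
    rw [hinj, hinj] at h3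
    rw [← hb i, ← hb' i]
    exact ((TopCat.Presheaf.germ_res_apply S.presheaf i₁ x hxV' (b i)).symm.trans
      (congrArg (S.presheaf.germ V' x hxV').hom h3)).trans (TopCat.Presheaf.germ_res_apply S.presheaf i₁ x hxV' (b' i))
  · intro z
    obtain ⟨V, hxV, s, rfl⟩ :=
      TopCat.Presheaf.exists_germ_eq (C := Ab.{u}) (FlatMod.freeMod S m).presheaf (x := x) z
    refine ⟨fun i => (S.presheaf.germ V x hxV).hom (show Γ(S, V) from (δ i).app V s), ?_⟩
    refine Eq.trans (TMul.germ_comb (le_top : V ≤ ⊤) hxV (fun i => (show Γ(S, V) from (δ i).app V s))).symm ?_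
    rw [hsurj]

variable {π : P ⟶ S} {O : P.Modules} (q : (Scheme.Modules.pullback π).obj (FlatMod.freeMod S (n + 1)) ⟶ O)

/-- the chart data of a standard vector over an affine open -/
def stdChart (U : S.Opens) (hU : IsAffineOpen U) (k : Fin (n + 1)) : ChartData (FlatMod.freeMod S (n + 1)) where
  m := n
  U := U
  hU := hU
  t i := res _ le_top (bv S i)
  ht := isFrame_res (isFrame_bv S (n + 1)) le_top
  k := k

/-- an affine open of the base with a standard vector -/
structure Idx (S : Scheme.{u}) (n : ℕ) : Type u where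
  /-- the open -/
  U : S.Opens
  hU : IsAffineOpen U
  /-- the vector -/
  k : Fin (n + 1)

variable (i : Idx S n)

/-- chart open -/
def Wi : P.Opens := W q (stdChart i.U i.hU i.k).t i.k
/-- chart generator -/
def gi : Γ(O, Wi q i) := gk q (stdChart i.U i.hU i.k).t i.k
/-- chart coordinates -/
def ci (l : Fin (n + 1)) : Γ(P, Wi q i) := co q (stdChart i.U i.hU i.k).t i.k l

lemma isGen_gi : TMul.IsGen (gi q i) := isGen_gk _ _ _
lemma ci_self : ci q i i.k = 1 := co_self _ _ _

lemma ci_smul (l : Fin (n + 1)) {V : P.Opens} (hV : V ≤ Wi q i) :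
    resO P hV (ci q i l) • res O hV (gi q i) =
      res O (show V ≤ π ⁻¹ᵁ ⊤ from fun _ _ => trivial) (sec' π q ⊤ (bv S l)) := by
  rw [← res_smul, ci, gi, co_smul]
  refine (res_res O _ _ _).trans ?_
  change res O _ (q.app _ (OmegaSh.pullSect π _ i.U (res _ le_top (bv S l)))) = _
  rw [pullSect_res, ← app_res, res_res]
  rfl

variable {q} (hP : KRR.IsProjBundle π (FlatMod.freeMod S (n + 1)) O q) {Ω : P.Modules} {d : OmegaSh.Der π Ω}
  (hd : OmegaSh.IsUniversal d)

include hP in
lemma exists_idx (x : P) : ∃ i : Idx S n, x ∈ Wi q i := by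
  obtain ⟨U, hU, hxU, -⟩ := exists_isAffineOpen_mem_and_subset (X := S) (x := π x) (U := ⊤) trivial
  obtain ⟨k, V, hV, hxV, hg⟩ :=
    exists_mem_W hP (isFrame_res (isFrame_bv S (n + 1)) (le_top : U ≤ ⊤)) (x := x) hxU
  exact ⟨⟨U, hU, k⟩, le_W q _ k hV hg hxV⟩

include hP hd in
lemma isFrame_dci : TMul.IsFrame fun l : Fin n => d.app (Wi q i) (ci q i (i.k.succAbove l)) :=
  isFrame_d (stdChart i.U i.hU i.k) hP hd

include hP in
lemma isAffineOpen_Wi : IsAffineOpen (Wi q i) := (chart (k := i.k) hP i.hU (stdChart i.U i.hU i.k).ht).1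

variable {L : P.Modules} (φ : ∀ V : P.affineOpens,
    (L.val.obj (op V.1)) ≃ₗ[Γ(P, V.1)] ↥(⋀[Γ(P, V.1)]^n (Ω.val.obj (op V.1))))

/-- the wedge of the differentials of coordinates -/
def om (V : P.affineOpens) (hV : V.1 ≤ Wi q i) : Γ(L, V.1) :=
  (φ V).symm (exteriorPower.ιMulti _ n fun l =>
    (show Ω.val.obj (op V.1) from d.app V.1 (resO P hV (ci q i (i.k.succAbove l)))))

/-- the basis of the differentials on an affine open of the chart -/
def bD {V : P.Opens} (hV : V ≤ Wi q i) : Module.Basis (Fin n) Γ(P, V) (Ω.val.obj (op V)) :=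
  Module.Basis.ofEquivFun ((isFrame_dci i hP hd).equiv hV).symm

lemma bD_apply {V : P.Opens} (hV : V ≤ Wi q i) (l : Fin n) :
    bD i hP hd hV l = d.app V (resO P hV (ci q i (i.k.succAbove l))) := by
  classical
  rw [bD, Module.Basis.coe_ofEquivFun, LinearEquiv.symm_symm]
  change ∑ j, (Pi.single l (1 : Γ(P, V)) : Fin n → Γ(P, V)) j • res Ω hV _ = _
  rw [Finset.sum_eq_single l]
  · rw [Pi.single_eq_same, one_smul, OmegaLib.res_app]
  · intro j _ hj
    rw [Pi.single_eq_of_ne hj, zero_smul]
  · simp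

include hP hd in
lemma bijective_om (V : P.affineOpens) (hV : V.1 ≤ Wi q i) :
    Function.Bijective fun a : Γ(P, V.1) => a • om (q := q) (d := d) i φ V hV := by
  have h := bijective_smul_ιMulti (bD i hP hd hV)
  have e : (fun a : Γ(P, V.1) => a • om (q := q) (d := d) i φ V hV) =
      (φ V).symm ∘ fun a => a • exteriorPower.ιMulti _ n (bD i hP hd hV) := by
    funext a
    rw [show (⇑(bD i hP hd hV) : Fin n → Ω.val.obj (op V.1)) = _ from funext (bD_apply i hP hd hV)]
    exact ((φ V).symm.map_smul a _).symm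
  rw [e]
  exact (φ V).symm.bijective.comp h

/-- the candidate global generator on an affine open of a chart -/
def theta (V : P.affineOpens) (hV : V.1 ≤ Wi q i) : Γ(CohB1.tensorMod L (CohB1.tensorPow O (n + 1)), V.1) :=
  ((-1 : Γ(P, V.1)) ^ (i.k : ℕ)) • TMul.tm (om (q := q) (d := d) i φ V hV) (TMul.pw (res O hV (gi q i)) (n + 1))

include hP hd in
set_option maxHeartbeats 800000 in
theorem theta_eq (j : Idx S n) (V : P.affineOpens) (hi : V.1 ≤ Wi q i) (hj : V.1 ≤ Wi q j) :
    theta (q := q) (d := d) j φ V hj = theta (q := q) (d := d) i φ V hi := by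
  classical
  let g := res O hi (gi q i)
  let g' := res O hj (gi q j)
  let c : Fin (n + 1) → Γ(P, V.1) := fun l => resO P hi (ci q i l)
  let c' : Fin (n + 1) → Γ(P, V.1) := fun l => resO P hj (ci q j l)
  let u := c j.k
  have hck : c i.k = 1 := by simp only [c, ci_self, map_one]
  have hc'j : c' j.k = 1 := by simp only [c', ci_self, map_one]
  have hcg : ∀ l, c l • g = c' l • g' := fun l => (ci_smul q i l hi).trans (ci_smul q j l hj).symm
  have hg' : g' = u • g := by rw [hcg, hc'j, one_smul]
  have hgen : Function.Injective fun a : Γ(P, V.1) => a • g := ((isGen_gi q i) V.1 hi).1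
  have hcu : ∀ l, c' l * u = c l := fun l => hgen (by
    change (c' l * u) • g = c l • g
    rw [mul_smul, ← hg', hcg])
  have hd1 : d.app V.1 (1 : Γ(P, V.1)) = 0 := by
    have := OmegaLib.app_mul d V.1 1 1
    simpa using this
  let b := bD i hP hd hi
  let dd : Fin (n + 1) → Ω.val.obj (op V.1) := fun l => d.app V.1 (c l)
  let dd' : Fin (n + 1) → Ω.val.obj (op V.1) := fun l => d.app V.1 (c' l)
  let X : Fin (n + 1) → Fin n → Γ(P, V.1) := fun l => b.equivFun (dd l)
  let X' : Fin (n + 1) → Fin n → Γ(P, V.1) := fun l => b.equivFun (dd' l)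
  have hddk : dd i.k = 0 := (congrArg (d.app V.1) hck).trans hd1
  have hdd'j : dd' j.k = 0 := (congrArg (d.app V.1) hc'j).trans hd1
  have hrel : ∀ l, dd l = u • dd' l + c' l • dd j.k := fun l => by
    have := OmegaLib.app_mul d V.1 (c' l) u
    rw [hcu] at this
    exact this.trans (add_comm _ _)
  have hdet := chart_det c c' u i.k j.k hck hc'j hcu X X'
    (fun l => congrFun ((congrArg b.equivFun hddk).trans (map_zero _)) l)
    (fun l l' => by
      have hb : dd (i.k.succAbove l) = b l := (bD_apply i hP hd hi l).symm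
      simp only [X, hb, Module.Basis.equivFun_self])
    (fun l => congrFun ((congrArg b.equivFun hdd'j).trans (map_zero _)) l)
    (fun l l' => by
      have h := congrFun (congrArg b.equivFun (hrel l)) l'
      simp only [map_add, map_smul, Pi.add_apply, Pi.smul_apply, smul_eq_mul] at h
      change u * X' l l' = X l l' - c' l * X j.k l'
      simp only [X, X', h]
      ring)
  have hom : om (q := q) (d := d) j φ V hj =
      Matrix.det (Matrix.of fun l l' => X' (j.k.succAbove l) l') • om (q := q) (d := d) i φ V hi := by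
    refine Eq.trans ?_ ((φ V).symm.map_smul _ _)
    refine congrArg (φ V).symm ?_
    refine (ιMulti_eq_det_smul b _).trans ?_
    rw [Module.Basis.det_apply, ← Matrix.det_transpose]
    refine congrArg₂ (fun a (w : Fin n → Ω.val.obj (op V.1)) => a • exteriorPower.ιMulti _ n w) ?_
      (funext (bD_apply i hP hd hi))
    congr 1
  have hpw : TMul.pw g' (n + 1) = u ^ (n + 1) • TMul.pw g (n + 1) := by rw [hg', TMul.pw_smul]
  change (-1 : Γ(P, V.1)) ^ (j.k : ℕ) • TMul.tm _ (TMul.pw g' (n + 1)) = _
  rw [hom, hpw, TMul.smul_tm, TMul.tm_smul, smul_smul, smul_smul]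
  refine congrArg (· • _) (Eq.trans ?_ hdet)
  ring

variable (hφ : ∀ (U V : P.affineOpens) (h : V.1 ≤ U.1) (e : Fin n → Ω.val.obj (op U.1)),
      L.val.map (homOfLE h).op ((φ U).symm (exteriorPower.ιMulti _ n e)) =
        (φ V).symm (exteriorPower.ιMulti _ n (fun l => Ω.val.map (homOfLE h).op (e l))))

include hφ in
lemma res_om (U V : P.affineOpens) (h : V.1 ≤ U.1) (hU : U.1 ≤ Wi q i) :
    res L h (om (q := q) (d := d) i φ U hU) = om (q := q) (d := d) i φ V (h.trans hU) := by
  refine (hφ U V h _).trans ?_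
  refine congrArg (φ V).symm (congrArg _ (funext fun l => ?_))
  exact (OmegaLib.res_app d h _).trans (congrArg (d.app V.1) (resO_resO h hU _))

include hφ in
lemma res_theta (U V : P.affineOpens) (h : V.1 ≤ U.1) (hU : U.1 ≤ Wi q i) :
    res _ h (theta (q := q) (d := d) i φ U hU) = theta (q := q) (d := d) i φ V (h.trans hU) := by
  rw [theta, theta, res_smul, TMul.res_tm, TMul.res_pw, res_res, res_om i φ hφ U V h hU, map_pow, map_neg, map_one]

omit i in
/-- being a generator can be tested on affine opens -/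
theorem isGen_of_affine {X : Scheme.{u}} {M : X.Modules} {U : X.Opens} {e : Γ(M, U)}
    (h : ∀ V : X.Opens, IsAffineOpen V → ∀ hV : V ≤ U, Function.Bijective fun c : Γ(X, V) => c • res M hV e) :
    TMul.IsGen e := by
  intro O' hO
  choose V hV hxV hVO using fun x : O' => exists_isAffineOpen_mem_and_subset (X := X) (x := (x : X)) (U := O') x.2
  have hVO' : ∀ x, V x ≤ O' := hVO
  have inj : ∀ (W : X.Opens) (hW : W ≤ O') (a b : Γ(X, W)),
      a • res M (hW.trans hO) e = b • res M (hW.trans hO) e → a = b := fun W hW a b hab => by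
    refine TopCat.Presheaf.IsSheaf.section_ext X.sheaf.2 fun w hw => ?_
    obtain ⟨V', hV', hwV', hV'W⟩ := exists_isAffineOpen_mem_and_subset (X := X) (x := w) (U := W) hw
    have hV'W' : V' ≤ W := hV'W
    refine ⟨V', hV'W', hwV', (h V' hV' ((hV'W'.trans hW).trans hO)).1 ?_⟩
    have h1 := congrArg (res M hV'W') hab
    simp only [res_smul, res_res] at h1 ⊢
    exact h1
  refine ⟨fun a b hab => inj O' le_rfl a b hab, fun s => ?_⟩
  choose c hc using fun x => (h (V x) (hV x) ((hVO' x).trans hO)).2 (res M (hVO' x) s)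
  simp only at hc
  obtain ⟨c₀, hc₀, -⟩ := TopCat.Sheaf.existsUnique_gluing' X.sheaf V O' (fun x => homOfLE (hVO' x))
    (fun x hx => Opens.mem_iSup.mpr ⟨⟨x, hx⟩, hxV _⟩) c (fun x y => by
      refine inj (V x ⊓ V y) (inf_le_left.trans (hVO' x)) _ _ ?_
      have h1 := congrArg (res M (inf_le_left : V x ⊓ V y ≤ V x)) (hc x)
      have h2 := congrArg (res M (inf_le_right : V x ⊓ V y ≤ V y)) (hc y)
      simp only [res_smul, res_res] at h1 h2
      exact h1.trans h2.symm)
  refine ⟨c₀, Groth.Agent.QC.section_eq_of_locally fun x hx => ⟨V ⟨x, hx⟩, hVO' _, hxV _, ?_⟩⟩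
  change res M _ ((show Γ(X, O') from c₀) • res M hO e) = _
  rw [res_smul, res_res, ← hc ⟨x, hx⟩]
  exact congrArg (· • _) (hc₀ ⟨x, hx⟩)

omit i φ hφ in
include hP hd in
/-- the top exterior power of the differentials is inverse to `O(1)^{n+1}` -/
theorem isInverseOf_topPower (hL : ExtPow.IsExtPow n Ω L) :
    ClSub.IsInverseOf L (CohB1.tensorPow O (n + 1)) := by
  obtain ⟨φ, hφ⟩ := hL
  let M := CohB1.tensorMod L (CohB1.tensorPow O (n + 1))
  let A : Idx S n → P.affineOpens := fun i => ⟨Wi q i, isAffineOpen_Wi i hP⟩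
  let θ : ∀ i, Γ(M, Wi q i) := fun i => theta (q := q) (d := d) i φ (A i) le_rfl
  have hθ : ∀ (i : Idx S n) (V : P.affineOpens) (h : V.1 ≤ Wi q i), res M h (θ i) = theta (q := q) (d := d) i φ V h :=
    fun i V h => res_theta i φ hφ (A i) V h le_rfl
  obtain ⟨Θ, hΘ⟩ := ZCl.glue M (Wi q) (V := ⊤) (fun _ => le_top)
    (fun x _ => exists_idx hP x) θ (fun i j => Groth.Agent.QC.section_eq_of_locally fun x hx => by
      obtain ⟨V, hV, hxV, hVle⟩ := exists_isAffineOpen_mem_and_subset (X := P) (x := x) hx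
      have hVij : V ≤ Wi q i ⊓ Wi q j := hVle
      refine ⟨V, hVij, hxV, ?_⟩
      change res M hVij (res M _ (θ i)) = res M hVij (res M _ (θ j))
      rw [res_res, res_res, hθ i ⟨V, hV⟩ (hVij.trans inf_le_left), hθ j ⟨V, hV⟩ (hVij.trans inf_le_right)]
      exact (theta_eq i hP hd φ j ⟨V, hV⟩ _ _).symm)
  have hgen : ∀ i, TMul.IsGen (θ i) := fun i => isGen_of_affine fun V hV h => by
    rw [hθ i ⟨V, hV⟩ h]
    have h1 : Function.Bijective fun c : Γ(P, V) =>
        c • TMul.tm (om (q := q) (d := d) i φ ⟨V, hV⟩ h) (TMul.pw (res O h (gi q i)) (n + 1)) := by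
      have h2 := TMul.tm_bijective (M := L) (TMul.isGen_pw (isGen_gi q i) (n + 1)) V h
      rw [TMul.res_pw] at h2
      refine (show (fun c : Γ(P, V) => _) = _ from funext fun c => ?_) ▸ h2.comp (bijective_om i hP hd φ ⟨V, hV⟩ h)
      exact (TMul.smul_tm _ _ _).symm
    have hu : IsUnit ((-1 : Γ(P, V)) ^ (i.k : ℕ)) := isUnit_one.neg.pow _
    obtain ⟨v, hv⟩ := hu
    have h3 : (fun c : Γ(P, V) => c • theta (q := q) (d := d) i φ ⟨V, hV⟩ h) =
        (fun c => c • TMul.tm (om (q := q) (d := d) i φ ⟨V, hV⟩ h) (TMul.pw (res O h (gi q i)) (n + 1))) ∘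
          fun c => c * (v : Γ(P, V)) := by
      funext c
      rw [Function.comp_apply, hv, mul_smul]
      rfl
    rw [h3]
    exact h1.comp v.mulRight.bijective
  have hΘgen : TMul.IsGen Θ := Groth.Agent.UfdExtend.isGen_of_locally fun x _ => by
    obtain ⟨i, hi⟩ := exists_idx hP x
    exact ⟨Wi q i, le_top, hi, by rw [show res M le_top Θ = θ i from hΘ i]; exact hgen i⟩
  haveI : IsIso (TMul.homOf (L := M) Θ) := by
    refine ZCl.isIso_of_bijective _ fun V => ?_
    rw [show ((TMul.homOf (L := M) Θ).app V : Γ(Coh.structureModule P, V) → Γ(M, V)) =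
      fun c : Γ(P, V) => c • res M le_top Θ from funext fun c => by rw [TMul.app_eq_smul, TMul.val_homOf]]
    exact hΘgen V le_top
  exact ⟨(asIso (TMul.homOf (L := M) Θ)).symm⟩

end Groth.Agent.PBundle

end
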