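import Groth.Agent.PBundle.Sec
import Groth.Agent.S3573
import Groth.Agent.CurveRR.Curve
import Groth.Agent.CohFinite.Serre

/-!
`P^n_S` is the projective bundle of the free module of rank `n + 1`.
-/

set_option autoImplicit false
set_option linter.style.haveILetI false
set_option backward.isDefEq.respectTransparency false
set_option backward.isDefEq.respectTransparency.types false

universe u

open CategoryTheory CategoryTheory.Limits AlgebraicGeometry TopologicalSpace Opposite

noncomputable section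

namespace Groth.Agent.PBundle

/-- pulled back sections along a composite -/
theorem comp_pullSec {X Y Z : Scheme.{u}} (f : X ⟶ Y) (g : Y ⟶ Z) {r : X ⟶ Z} (hr : f ≫ g = r) (M : Z.Modules)
    (t : ProjUP.Γm M) :
    ((Scheme.Modules.pullbackCongr hr).hom.app M).app ⊤ (((Scheme.Modules.pullbackComp f g).hom.app M).app ⊤
      (ProjUP.pullSec f _ (ProjUP.pullSec g M t))) = ProjUP.pullSec r M t := by
  subst hr
  refine Eq.trans ?_ (QC.pullbackComp_hom_pullSect f g M ⊤ t)
  simp [Scheme.Modules.pullbackCongr]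
  rfl

variable (n : ℕ) (S : Scheme.{u})

/-- the coordinates on `P^n_S` -/
def x (i : Fin (n + 1)) : ProjUP.Γm (Twist.twistOver n S 1) :=
  ProjUP.pullSec (ProjMor.pz n S) (Twist.twistProjSpace n (ULift.{u} ℤ) 1) (ProjUP.coord n (ULift.{u} ℤ) i)

/-- the universal quotient on `P^n_S` -/
def q0 : (Scheme.Modules.pullback (CohB1.ProjSpaceOver.toBase n S)).obj (FlatMod.freeMod S (n + 1)) ⟶
    Twist.twistOver n S 1 :=
  mk (CohB1.ProjSpaceOver.toBase n S) (x n S)

theorem isInvertible_twistOver (d : ℤ) : PicF.IsInvertible (Twist.twistOver n S d) :=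
  PicLoc.isInvertible_pullback _ (CohFinite.isInvertible_twist n _ d)

theorem sec_q0 (i : Fin (n + 1)) : sec (CohB1.ProjSpaceOver.toBase n S) (q0 n S) i = x n S i := sec_mk _ _ i

theorem mem_genLocus_x (p : CohB1.ProjSpaceOver n S) :
    ∃ i, p ∈ CohB1.genLocus _ (TMul.homOf (L := Twist.twistOver n S 1) (x n S i)) := by
  obtain ⟨i, hi⟩ := CohFinite.cov_X n (ULift.{u} ℤ) (ProjMor.pz n S p)
  refine ⟨i.down, ?_⟩
  rw [show CohB1.genLocus _ (TMul.homOf (L := Twist.twistOver n S 1) (x n S i.down)) =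
    ProjMor.pz n S ⁻¹ᵁ CohB1.genLocus _ (TMul.homOf (ProjUP.coord n (ULift.{u} ℤ) i.down)) from
    ProjMor.genLocus_pullSec (ProjMor.pz n S) (CohFinite.isInvertible_twist n _ 1) _]
  have hc : ProjUP.coord n (ULift.{u} ℤ) i.down = ProjMor.sec1 (MvPolynomial.isHomogeneous_X (ULift.{u} ℤ) i.down) :=
    (ProjMor.sec1_eq_globalOf _).symm
  rw [hc]
  change ProjMor.pz n S p ∈ CohB1.genLocus (Twist.twist (CohB1.polyGrading n (ULift.{u} ℤ)) 1) _
  rw [ProjMor.genLocus_sec1 (ProjMor.genDegOne_projSpace n _) (MvPolynomial.isHomogeneous_X (ULift.{u} ℤ) i.down)]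
  exact (ProjectiveSpectrum.mem_basicOpen _ _ _).mpr hi

theorem generatedBy_x : ProjUP.GeneratedBy (Twist.twistOver n S 1) (x n S) :=
  ProjMor.generatedBy_of_mem_genLocus _ (mem_genLocus_x n S)

/-- `P^n_S` is the projective bundle of `O^{n+1}` -/
theorem isProjBundle_free : KRR.IsProjBundle (CohB1.ProjSpaceOver.toBase n S) (FlatMod.freeMod S (n + 1))
    (Twist.twistOver n S 1) (q0 n S) where
  invertible := CurveRR.isFinLocFreeOfRank_one (isInvertible_twistOver n S 1)
  epi := epi_of_generatedBy _ _ (isInvertible_twistOver n S 1) (by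
    rw [show sec (CohB1.ProjSpaceOver.toBase n S) (q0 n S) = x n S from funext (sec_q0 n S)]
    exact generatedBy_x n S)
  univ T g L hL s hs := by
    let O := Twist.twistProjSpace n (ULift.{u} ℤ) 1
    have hLi := ZeroSch.isInvertible_of_rankOne hL
    obtain ⟨r, hr, τ, hτ⟩ := ProjMor.exists_projSpace (R := ULift.{u} ℤ) (g ≫ specULiftZIsTerminal.from S) hLi
      (sec g s) (generatedBy_of_epi g s)
    let h : T ⟶ CohB1.ProjSpaceOver n S := pullback.lift r g hr
    have h1 : h ≫ ProjMor.pz n S = r := pullback.lift_fst _ _ _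
    have h2 : h ≫ CohB1.ProjSpaceOver.toBase n S = g := pullback.lift_snd _ _ _
    let c : (Scheme.Modules.pullback h).obj (Twist.twistOver n S 1) ≅ (Scheme.Modules.pullback r).obj O :=
      (Scheme.Modules.pullbackComp h (ProjMor.pz n S)).app O ≪≫ (Scheme.Modules.pullbackCongr h1).app O
    refine ⟨h, ⟨h2, c ≪≫ τ, ext_sec g fun i => ?_⟩, ?_⟩
    · rw [sec_bc, sec_q0, ← hτ i, ← comp_pullSec h (ProjMor.pz n S) h1 O (ProjUP.coord n _ i)]
      rfl
    · rintro h' ⟨hg', e', he'⟩
      let r' := h' ≫ ProjMor.pz n S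
      let τ' : (Scheme.Modules.pullback r').obj O ≅ L :=
        ((Scheme.Modules.pullbackComp h' (ProjMor.pz n S)).app O).symm ≪≫ e'
      have hτ' : ∀ i, τ'.hom.app ⊤ (ProjUP.pullSec r' O (ProjUP.coord n _ i)) = sec g s i := fun i => by
        rw [← he', sec_bc, sec_q0, ← comp_pullSec h' (ProjMor.pz n S) rfl O (ProjUP.coord n _ i)]
        change e'.hom.app ⊤ (((Scheme.Modules.pullbackComp h' (ProjMor.pz n S)).inv.app O).app ⊤
          (((Scheme.Modules.pullbackCongr (rfl : r' = r')).hom.app O).app ⊤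
            (((Scheme.Modules.pullbackComp h' (ProjMor.pz n S)).hom.app O).app ⊤ _))) = _
        rw [show ((Scheme.Modules.pullbackCongr (rfl : r' = r')).hom.app O) = 𝟙 _ by
          simp [Scheme.Modules.pullbackCongr]]
        exact congrArg (e'.hom.app ⊤) (congr(($((Scheme.Modules.pullbackComp h' (ProjMor.pz n S)).hom_inv_id_app O)).app
          (⊤ : T.Opens) (ProjUP.pullSec h' _ (ProjUP.pullSec (ProjMor.pz n S) O (ProjUP.coord n _ i)))))
      have hrr : r' = r := by
        refine (S3573.result n r r' (hr.trans ?_) (τ ≪≫ τ'.symm) fun i => ?_).symm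
        · rw [Category.assoc, ← hg', Category.assoc]
          exact congrArg (h' ≫ ·) pullback.condition.symm
        · change τ'.inv.app ⊤ (τ.hom.app ⊤ _) = _
          rw [hτ i, ← hτ' i]
          exact congr(($(τ'.hom_inv_id)).app (⊤ : T.Opens) (ProjUP.pullSec r' O (ProjUP.coord n _ i)))
      exact pullback.hom_ext (hrr.trans h1.symm) (hg'.trans h2.symm)

end Groth.Agent.PBundle

end
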