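import Groth.Agent.QC.PullSect
import Groth.Agent.InvGen.Basic
import Groth.Agent.CurveRR.Curve
import Groth.Agent.ZeroSch.Basic
import Groth.Prelude.Def_KRR

/-!
Projective bundles: morphisms through sections, transport, uniqueness, base change.
-/

set_option autoImplicit false
set_option linter.style.haveILetI false
set_option backward.isDefEq.respectTransparency false
set_option backward.isDefEq.respectTransparency.types false

universe u

open CategoryTheory CategoryTheory.Limits AlgebraicGeometry TopologicalSpace Opposite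
open Groth.Agent.QC (res res_res res_self app_res)

noncomputable section

namespace Groth.Agent.PBundle

variable {S P T T' : Scheme.{u}} {E E' : S.Modules} {O : P.Modules} {π : P ⟶ S}

/-- the value of a map out of an inverse image on an inverse image section -/
def sec' (g : T ⟶ S) {L : T.Modules} (s : (Scheme.Modules.pullback g).obj E ⟶ L) (U : S.Opens) (t : Γ(E, U)) :
    Γ(L, g ⁻¹ᵁ U) :=
  s.app (g ⁻¹ᵁ U) (OmegaSh.pullSect g E U t)

lemma sec'_comp (g : T ⟶ S) {L L' : T.Modules} (s : (Scheme.Modules.pullback g).obj E ⟶ L) (φ : L ⟶ L')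
    (U : S.Opens) (t : Γ(E, U)) : sec' g (s ≫ φ) U t = φ.app (g ⁻¹ᵁ U) (sec' g s U t) := rfl

lemma sec'_map (g : T ⟶ S) {L : T.Modules} (ψ : E' ⟶ E) (s : (Scheme.Modules.pullback g).obj E ⟶ L)
    (U : S.Opens) (t : Γ(E', U)) :
    sec' g ((Scheme.Modules.pullback g).map ψ ≫ s) U t = sec' g s U (ψ.app U t) :=
  congrArg (s.app (g ⁻¹ᵁ U)) (QC.app_pullSect g ψ U t)

theorem ext_sec' (g : T ⟶ S) {L : T.Modules} {a b : (Scheme.Modules.pullback g).obj E ⟶ L}
    (h : ∀ U t, sec' g a U t = sec' g b U t) : a = b := by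
  refine ((Scheme.Modules.pullbackPushforwardAdjunction g).homEquiv _ _).injective
    (Scheme.Modules.hom_ext _ _ fun U => ?_)
  ext t
  exact h U t

/-- base change of a quotient -/
def bc (q : (Scheme.Modules.pullback π).obj E ⟶ O) (h : T ⟶ P) {g : T ⟶ S} (hg : h ≫ π = g) {L : T.Modules}
    (e : (Scheme.Modules.pullback h).obj O ⟶ L) : (Scheme.Modules.pullback g).obj E ⟶ L :=
  (Scheme.Modules.pullbackCongr hg).inv.app E ≫ (Scheme.Modules.pullbackComp h π).inv.app E ≫
    (Scheme.Modules.pullback h).map q ≫ e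

theorem sec'_bc (q : (Scheme.Modules.pullback π).obj E ⟶ O) (h : T ⟶ P) {L : T.Modules}
    (e : (Scheme.Modules.pullback h).obj O ⟶ L) (U : S.Opens) (t : Γ(E, U)) :
    sec' (h ≫ π) (bc q h rfl e) U t = e.app (h ⁻¹ᵁ (π ⁻¹ᵁ U)) (OmegaSh.pullSect h O (π ⁻¹ᵁ U) (sec' π q U t)) := by
  have h0 : ((Scheme.Modules.pullbackCongr (rfl : h ≫ π = h ≫ π)).inv.app E).app ((h ≫ π) ⁻¹ᵁ U)
      (OmegaSh.pullSect (h ≫ π) E U t) = OmegaSh.pullSect (h ≫ π) E U t := by
    simp [Scheme.Modules.pullbackCongr]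
  have h1 : ((Scheme.Modules.pullbackComp h π).inv.app E).app (h ⁻¹ᵁ (π ⁻¹ᵁ U)) (OmegaSh.pullSect (h ≫ π) E U t) =
      OmegaSh.pullSect h ((Scheme.Modules.pullback π).obj E) (π ⁻¹ᵁ U) (OmegaSh.pullSect π E U t) := by
    rw [← QC.pullbackComp_hom_pullSect h π E U t]
    exact congr(($((Scheme.Modules.pullbackComp h π).hom_inv_id_app E)).app (h ⁻¹ᵁ (π ⁻¹ᵁ U)) _)
  have h2 := QC.app_pullSect h q (π ⁻¹ᵁ U) (OmegaSh.pullSect π E U t)
  change e.app (h ⁻¹ᵁ (π ⁻¹ᵁ U)) (((Scheme.Modules.pullback h).map q).app _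
    (((Scheme.Modules.pullbackComp h π).inv.app E).app _
      (((Scheme.Modules.pullbackCongr (rfl : h ≫ π = h ≫ π)).inv.app E).app ((h ≫ π) ⁻¹ᵁ U)
        (OmegaSh.pullSect (h ≫ π) E U t)))) = _
  rw [h0]
  exact congrArg (e.app (h ⁻¹ᵁ (π ⁻¹ᵁ U))) ((congrArg _ h1).trans h2)

/-- base change along a composite -/
theorem bc_comp (q : (Scheme.Modules.pullback π).obj E ⟶ O) (h : T ⟶ P) (b : T' ⟶ T) {L : T.Modules}
    {L' : T'.Modules} (e : (Scheme.Modules.pullback h).obj O ⟶ L) (e₂ : (Scheme.Modules.pullback b).obj L ⟶ L') :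
    bc (bc q h rfl e) b rfl e₂ = bc q (b ≫ h) (Category.assoc b h π)
      ((Scheme.Modules.pullbackComp b h).inv.app O ≫ (Scheme.Modules.pullback b).map e ≫ e₂) := by
  refine ext_sec' _ fun U t => ?_
  refine (sec'_bc (bc q h rfl e) b e₂ U t).trans ?_
  rw [sec'_bc]
  refine Eq.trans ?_ (sec'_bc q (b ≫ h) ((Scheme.Modules.pullbackComp b h).inv.app O ≫
    (Scheme.Modules.pullback b).map e ≫ e₂) U t).symm
  have h1 : ((Scheme.Modules.pullbackComp b h).inv.app O).app (b ⁻¹ᵁ (h ⁻¹ᵁ (π ⁻¹ᵁ U)))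
      (OmegaSh.pullSect (b ≫ h) O (π ⁻¹ᵁ U) (sec' π q U t)) =
      OmegaSh.pullSect b ((Scheme.Modules.pullback h).obj O) (h ⁻¹ᵁ (π ⁻¹ᵁ U))
        (OmegaSh.pullSect h O (π ⁻¹ᵁ U) (sec' π q U t)) := by
    rw [← QC.pullbackComp_hom_pullSect b h O (π ⁻¹ᵁ U) (sec' π q U t)]
    exact congr(($((Scheme.Modules.pullbackComp b h).hom_inv_id_app O)).app (b ⁻¹ᵁ (h ⁻¹ᵁ (π ⁻¹ᵁ U))) _)
  have h2 := QC.app_pullSect b e (h ⁻¹ᵁ (π ⁻¹ᵁ U)) (OmegaSh.pullSect h O (π ⁻¹ᵁ U) (sec' π q U t))
  exact (congrArg (e₂.app (b ⁻¹ᵁ (h ⁻¹ᵁ (π ⁻¹ᵁ U)))) ((congrArg _ h1).trans h2)).symm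

/-- base change along a composite, any names for the structure maps -/
theorem bc_comp' (q : (Scheme.Modules.pullback π).obj E ⟶ O) (h : T ⟶ P) {g : T ⟶ S} (hg : h ≫ π = g) (b : T' ⟶ T)
    {g₂ : T' ⟶ S} (hb : b ≫ g = g₂) {L : T.Modules} {L' : T'.Modules} (e : (Scheme.Modules.pullback h).obj O ⟶ L)
    (e₂ : (Scheme.Modules.pullback b).obj L ⟶ L') :
    bc (bc q h hg e) b hb e₂ = bc q (b ≫ h) (by rw [Category.assoc, hg, hb])
      ((Scheme.Modules.pullbackComp b h).inv.app O ≫ (Scheme.Modules.pullback b).map e ≫ e₂) := by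
  subst hg hb
  exact bc_comp q h b e e₂

lemma pullbackId_hom_pullSect (M : T.Modules) (W : T.Opens) (m : Γ(M, W)) :
    ((Scheme.Modules.pullbackId T).hom.app M).app W (OmegaSh.pullSect (𝟙 T) M W m) = m := by
  have h := unit_conjugateEquiv (Adjunction.id (C := T.Modules))
    (Scheme.Modules.pullbackPushforwardAdjunction (𝟙 T)) (Scheme.Modules.pullbackId T).hom M
  rw [Scheme.Modules.conjugateEquiv_pullbackId_hom] at h
  exact congr(($h).app W m).symm

/-- the identity classifies the universal quotient -/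
theorem bc_id (q : (Scheme.Modules.pullback π).obj E ⟶ O) :
    bc q (𝟙 P) (Category.id_comp π) ((Scheme.Modules.pullbackId P).hom.app O) = q :=
  ext_sec' π fun U t => (sec'_bc q (𝟙 P) ((Scheme.Modules.pullbackId P).hom.app O) U t).trans
    (pullbackId_hom_pullSect O (π ⁻¹ᵁ U) (sec' π q U t))

variable {q : (Scheme.Modules.pullback π).obj E ⟶ O}

theorem isInvertible (hP : KRR.IsProjBundle π E O q) : PicF.IsInvertible O := ZeroSch.isInvertible_of_rankOne hP.invertible

/-- classifying map -/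
theorem exists_hom (hP : KRR.IsProjBundle π E O q) (g : T ⟶ S) {L : T.Modules}
    (hL : FlatMod.IsFinLocFreeOfRank 1 L) (s : (Scheme.Modules.pullback g).obj E ⟶ L) [hs : Epi s] :
    ∃ (h : T ⟶ P) (hg : h ≫ π = g) (e : (Scheme.Modules.pullback h).obj O ≅ L), bc q h hg e.hom = s := by
  obtain ⟨h, ⟨hg, e, he⟩, -⟩ := hP.univ T g L hL s hs
  exact ⟨h, hg, e, he⟩

/-- uniqueness of classifying maps -/
theorem hom_unique (hP : KRR.IsProjBundle π E O q) {g : T ⟶ S} {L : T.Modules}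
    (hL : FlatMod.IsFinLocFreeOfRank 1 L) (s : (Scheme.Modules.pullback g).obj E ⟶ L) [hs : Epi s]
    {h h' : T ⟶ P} (hg : h ≫ π = g) (hg' : h' ≫ π = g) (e : (Scheme.Modules.pullback h).obj O ≅ L)
    (e' : (Scheme.Modules.pullback h').obj O ≅ L) (he : bc q h hg e.hom = s) (he' : bc q h' hg' e'.hom = s) :
    h = h' :=
  (hP.univ T g L hL s hs).unique ⟨hg, e, he⟩ ⟨hg', e', he'⟩

/-- two projective bundles of the same module are isomorphic over the base, compatibly with the quotients -/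
theorem exists_iso (hP : KRR.IsProjBundle π E O q) {P' : Scheme.{u}} {π' : P' ⟶ S} {O' : P'.Modules}
    {q' : (Scheme.Modules.pullback π').obj E ⟶ O'} (hP' : KRR.IsProjBundle π' E O' q') :
    ∃ (h : P' ≅ P) (hg : h.hom ≫ π = π') (e : (Scheme.Modules.pullback h.hom).obj O ≅ O'),
      bc q h.hom hg e.hom = q' := by
  haveI := hP.epi
  haveI := hP'.epi
  obtain ⟨h, hg, e, he⟩ := exists_hom hP π' hP'.invertible q'
  obtain ⟨k, hk, f, hf⟩ := exists_hom hP' π hP.invertible q
  have h1 : k ≫ h = 𝟙 P := by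
    refine hom_unique hP hP.invertible q (by rw [Category.assoc, hg, hk]) (Category.id_comp π)
      (((Scheme.Modules.pullbackComp k h).app O).symm ≪≫ (Scheme.Modules.pullback k).mapIso e ≪≫ f)
      ((Scheme.Modules.pullbackId P).app O) ?_ (bc_id q)
    exact (bc_comp' q h hg k hk e.hom f.hom).symm.trans ((congrArg (fun w => bc w k hk f.hom) he).trans hf)
  have h2 : h ≫ k = 𝟙 P' := by
    refine hom_unique hP' hP'.invertible q' (by rw [Category.assoc, hk, hg]) (Category.id_comp _)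
      (((Scheme.Modules.pullbackComp h k).app O').symm ≪≫ (Scheme.Modules.pullback h).mapIso f ≪≫ e)
      ((Scheme.Modules.pullbackId P').app O') ?_ (bc_id q')
    exact (bc_comp' q' k hk h hg f.hom e.hom).symm.trans ((congrArg (fun w => bc w h hg e.hom) hf).trans he)
  exact ⟨⟨h, k, h2, h1⟩, hg, e, he⟩

/-- transport along an isomorphism of modules -/
theorem of_moduleIso (hP : KRR.IsProjBundle π E O q) (θ : E' ≅ E) :
    KRR.IsProjBundle π E' O ((Scheme.Modules.pullback π).map θ.hom ≫ q) where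
  invertible := hP.invertible
  epi := haveI := hP.epi; epi_comp _ _
  univ T g L hL s hs := by
    haveI := hs
    have key : ∀ (h : T ⟶ P) (hg : h ≫ π = g) (e : (Scheme.Modules.pullback h).obj O ≅ L),
        bc ((Scheme.Modules.pullback π).map θ.hom ≫ q) h hg e.hom =
          (Scheme.Modules.pullback g).map θ.hom ≫ bc q h hg e.hom := fun h hg e => by
      subst hg
      refine ext_sec' _ fun U t => ?_
      rw [sec'_bc, sec'_map, sec'_map, sec'_bc]
    obtain ⟨h, ⟨hg, e, he⟩, hu⟩ := hP.univ T g L hL ((Scheme.Modules.pullback g).map θ.inv ≫ s) (epi_comp _ _)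
    refine ⟨h, ⟨hg, e, ?_⟩, fun h' ⟨hg', e', he'⟩ => hu h' ⟨hg', e', ?_⟩⟩
    · refine (key h hg e).trans ?_
      rw [show bc q h hg e.hom = _ from he, ← Category.assoc, ← Functor.map_comp, θ.hom_inv_id,
        CategoryTheory.Functor.map_id, Category.id_comp]
    · have h1 := (key h' hg' e').symm.trans he'
      refine Eq.trans ?_ (congrArg (fun z => (Scheme.Modules.pullback g).map θ.inv ≫ z) h1)
      refine Eq.trans ?_ (Category.assoc _ _ _)
      rw [← Functor.map_comp, θ.inv_hom_id, CategoryTheory.Functor.map_id, Category.id_comp]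
      rfl

variable {S' P₂ : Scheme.{u}} {b : S' ⟶ S} {a : P₂ ⟶ P} {π₂ : P₂ ⟶ S'}

/-- the quotient on a base change -/
def bcQuot (q : (Scheme.Modules.pullback π).obj E ⟶ O) (sq : IsPullback a π₂ π b) :
    (Scheme.Modules.pullback π₂).obj ((Scheme.Modules.pullback b).obj E) ⟶ (Scheme.Modules.pullback a).obj O :=
  (Scheme.Modules.pullbackComp π₂ b).hom.app E ≫ bc q a sq.w (𝟙 _)

/-- maps out of iterated inverse images -/
theorem sec'_iter {g : T ⟶ S'} {L : T.Modules}
    (s : (Scheme.Modules.pullback g).obj ((Scheme.Modules.pullback b).obj E) ⟶ L) (U : S.Opens) (t : Γ(E, U)) :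
    sec' (g ≫ b) ((Scheme.Modules.pullbackComp g b).inv.app E ≫ s) U t =
      sec' g s (b ⁻¹ᵁ U) (OmegaSh.pullSect b E U t) := by
  refine congrArg (s.app (g ⁻¹ᵁ (b ⁻¹ᵁ U))) ?_
  rw [← QC.pullbackComp_hom_pullSect g b E U t]
  exact congr(($((Scheme.Modules.pullbackComp g b).hom_inv_id_app E)).app (g ⁻¹ᵁ (b ⁻¹ᵁ U)) _)

/-- base change of a quotient of an iterated inverse image -/
theorem comp_bc {O₂ : P₂.Modules} (q₂ : (Scheme.Modules.pullback π₂).obj ((Scheme.Modules.pullback b).obj E) ⟶ O₂)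
    (k : T ⟶ P₂) {g : T ⟶ S'} (hk : k ≫ π₂ = g) {L : T.Modules} (f : (Scheme.Modules.pullback k).obj O₂ ⟶ L) :
    (Scheme.Modules.pullbackComp g b).inv.app E ≫ bc q₂ k hk f =
      bc ((Scheme.Modules.pullbackComp π₂ b).inv.app E ≫ q₂) k (by rw [← Category.assoc, hk]) f := by
  subst hk
  refine ext_sec' _ fun U t => ?_
  refine ((sec'_iter (bc q₂ k rfl f) U t).trans (sec'_bc q₂ k f (b ⁻¹ᵁ U) (OmegaSh.pullSect b E U t))).trans ?_
  refine Eq.trans ?_ (sec'_bc ((Scheme.Modules.pullbackComp π₂ b).inv.app E ≫ q₂) k f U t).symm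
  exact congrArg (fun z => f.app _ (OmegaSh.pullSect k O₂ (π₂ ⁻¹ᵁ (b ⁻¹ᵁ U)) z)) (sec'_iter q₂ U t).symm

/-- projective bundles are stable under base change -/
theorem of_isPullback (hP : KRR.IsProjBundle π E O q) (sq : IsPullback a π₂ π b) :
    KRR.IsProjBundle π₂ ((Scheme.Modules.pullback b).obj E) ((Scheme.Modules.pullback a).obj O) (bcQuot q sq) where
  invertible := CurveRR.isFinLocFreeOfRank_one (PicLoc.isInvertible_pullback a (isInvertible hP))
  epi := by
    haveI := hP.epi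
    haveI : (Scheme.Modules.pullback a).PreservesEpimorphisms :=
      CategoryTheory.Functor.preservesEpimorphisms_of_adjunction (Scheme.Modules.pullbackPushforwardAdjunction a)
    dsimp only [bcQuot, bc]
    infer_instance
  univ T g L hL s hs := by
    haveI := hs
    have hcan : (Scheme.Modules.pullbackComp π₂ b).inv.app E ≫ bcQuot q sq = bc q a sq.w (𝟙 _) := by
      rw [bcQuot, ← Category.assoc, Iso.inv_hom_id_app, Category.id_comp]
    have key : ∀ (k : T ⟶ P₂) (hk : k ≫ π₂ = g)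
        (f : (Scheme.Modules.pullback k).obj ((Scheme.Modules.pullback a).obj O) ≅ L) (hw : (k ≫ a) ≫ π = g ≫ b),
        (Scheme.Modules.pullbackComp g b).inv.app E ≫ bc (bcQuot q sq) k hk f.hom =
          bc q (k ≫ a) hw ((Scheme.Modules.pullbackComp k a).inv.app O ≫ f.hom) := fun k hk f hw => by
      rw [comp_bc, hcan, bc_comp' q a sq.w k]
      congr 1
      simp
    obtain ⟨h, hhg, e, he⟩ := exists_hom hP (g ≫ b) hL ((Scheme.Modules.pullbackComp g b).inv.app E ≫ s)
    let k := sq.lift h g hhg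
    have hka : k ≫ a = h := sq.lift_fst _ _ _
    have hkπ : k ≫ π₂ = g := sq.lift_snd _ _ _
    have hw0 : (k ≫ a) ≫ π = g ≫ b := by rw [hka, hhg]
    obtain ⟨e', he'⟩ : ∃ e' : (Scheme.Modules.pullback (k ≫ a)).obj O ≅ L,
        bc q (k ≫ a) hw0 e'.hom = (Scheme.Modules.pullbackComp g b).inv.app E ≫ s := by
      clear_value k
      subst hka
      exact ⟨e, he⟩
    refine ⟨k, ⟨hkπ, (Scheme.Modules.pullbackComp k a).app O ≪≫ e', ?_⟩, ?_⟩
    · refine (cancel_epi ((Scheme.Modules.pullbackComp g b).inv.app E)).1 ?_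
      refine (key k hkπ ((Scheme.Modules.pullbackComp k a).app O ≪≫ e') hw0).trans ?_
      rw [← he']
      congr 1
      simp
    · rintro k' ⟨hk', f, hf⟩
      have hw : (k' ≫ a) ≫ π = g ≫ b := by rw [Category.assoc, sq.w, ← Category.assoc, hk']
      refine sq.hom_ext ?_ (hk'.trans hkπ.symm)
      exact hom_unique hP hL _ hw hw0 (((Scheme.Modules.pullbackComp k' a).app O).symm ≪≫ f) e'
        ((key k' hk' f hw).symm.trans (congrArg _ hf)) he'

end Groth.Agent.PBundle

end
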