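import Groth.Agent.PBundle.Free
import Groth.Agent.PBundle.Basic
import Groth.Agent.DerPerf.Local
import Groth.Agent.W7Hull.FlatTwist
import Groth.Agent.TMul.Pullback
import Groth.Agent.TMul.Assoc
import Groth.Prelude.Def_FlatMod2
import Groth.Prelude.Def_ClSub2

/-!
Projective bundles of locally free modules are projective spaces locally on the base.
-/

set_option autoImplicit false
set_option linter.style.haveILetI false
set_option backward.isDefEq.respectTransparency false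
set_option backward.isDefEq.respectTransparency.types false

universe u

open CategoryTheory CategoryTheory.Limits AlgebraicGeometry TopologicalSpace Opposite

noncomputable section

namespace Groth.Agent.PBundle

variable {S P : Scheme.{u}} {E : S.Modules} {O : P.Modules} {π : P ⟶ S}
  {q : (Scheme.Modules.pullback π).obj E ⟶ O}

/-- free over a smaller open -/
theorem nonempty_free_of_le {U V : S.Opens} (h : V ≤ U) {n : ℕ} (e : E.restrict U.ι ≅ FlatMod.freeMod (↑U) n) :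
    Nonempty ((Scheme.Modules.pullback V.ι).obj E ≅ FlatMod.freeMod V.toScheme n) :=
  ⟨((Scheme.Modules.pullbackCongr (S.homOfLE_ι h)).app E).symm ≪≫
    ((Scheme.Modules.pullbackComp (S.homOfLE h) U.ι).app E).symm ≪≫
    (Scheme.Modules.pullback (S.homOfLE h)).mapIso
      (((Scheme.Modules.restrictFunctorIsoPullback U.ι).app E).symm ≪≫ e) ≪≫
    DerPerf.pullFreeIso (S.homOfLE h) n⟩

/-- over an open on which `E` is free, `P(E)` is projective space -/
theorem exists_chart (hP : KRR.IsProjBundle π E O q) (V : S.Opens) {r : ℕ}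
    (θ : (Scheme.Modules.pullback V.ι).obj E ≅ FlatMod.freeMod V.toScheme (r + 1)) :
    ∃ φ : CohB1.ProjSpaceOver r V.toScheme ≅ (π ⁻¹ᵁ V).toScheme,
      φ.hom ≫ π ∣_ V = CohB1.ProjSpaceOver.toBase r V.toScheme ∧
      Nonempty ((Scheme.Modules.pullback (φ.hom ≫ (π ⁻¹ᵁ V).ι)).obj O ≅ Twist.twistOver r V.toScheme 1) := by
  have h1 := of_moduleIso (of_isPullback hP (isPullback_morphismRestrict π V).flip) θ.symm
  obtain ⟨h, hg, e, -⟩ := exists_iso h1 (isProjBundle_free r V.toScheme)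
  exact ⟨h, hg, ⟨((Scheme.Modules.pullbackComp h.hom (π ⁻¹ᵁ V).ι).app O).symm ≪≫ e⟩⟩

/-- a projective bundle of a locally free module is locally a projective space -/
theorem exists_local (hP : KRR.IsProjBundle π E O q) {r : ℕ} (hE : FlatMod.IsFinLocFreeOfRank (r + 1) E) (y : S) :
    ∃ V : S.Opens, IsAffineOpen V ∧ y ∈ V ∧
      ∃ φ : CohB1.ProjSpaceOver r V.toScheme ≅ (π ⁻¹ᵁ V).toScheme,
        φ.hom ≫ π ∣_ V = CohB1.ProjSpaceOver.toBase r V.toScheme ∧
        Nonempty ((Scheme.Modules.pullback (φ.hom ≫ (π ⁻¹ᵁ V).ι)).obj O ≅ Twist.twistOver r V.toScheme 1) := by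
  obtain ⟨U, hyU, ⟨e⟩⟩ := hE y
  obtain ⟨V, hV, hyV, hVU⟩ := exists_isAffineOpen_mem_and_subset hyU
  obtain ⟨θ⟩ := nonempty_free_of_le hVU e
  exact ⟨V, hV, hyV, exists_chart hP V θ⟩

variable {X : Scheme.{u}}

theorem nonempty_iso_of_isInverse {L L' M : X.Modules} (h : ClSub.IsInverseOf L M) (h' : ClSub.IsInverseOf L' M) :
    Nonempty (L ≅ L') := by
  obtain ⟨a⟩ := h
  obtain ⟨b⟩ := h'
  exact ⟨(TMul.leftUnitIso L).symm ≪≫ PicGrp.tensorModIso b.symm (Iso.refl L) ≪≫ TMul.assocIso L' M L ≪≫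
    PicGrp.tensorModIso (Iso.refl L') (TMul.commIso M L ≪≫ a) ≪≫ TMul.commIso _ _ ≪≫ TMul.leftUnitIso L'⟩

theorem nonempty_powIso {L L' : X.Modules} (e : L ≅ L') : ∀ n : ℕ,
    Nonempty (CohB1.tensorPow L n ≅ CohB1.tensorPow L' n)
  | 0 => ⟨Iso.refl _⟩
  | n + 1 => by
    obtain ⟨f⟩ := nonempty_powIso e n
    exact ⟨PicGrp.tensorModIso f e⟩

variable (r : ℕ) (Y : Scheme.{u})

theorem nonempty_twistOver_add (a b c : ℤ) (hc : a + b = c) :
    Nonempty (CohB1.tensorMod (Twist.twistOver r Y a) (Twist.twistOver r Y b) ≅ Twist.twistOver r Y c) := by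
  obtain ⟨i⟩ := GrT.nonempty_tensor_iso (a := a) (b := b) (c := c) (CohB1.polyGrading r (ULift.{u} ℤ))
    (CohFinite.cov_one r _) hc
  obtain ⟨k⟩ := TMul.nonempty_pullTensorIso
    (pullback.fst (CohB1.ProjSpace.toSpec r (ULift.{u} ℤ)) (specULiftZIsTerminal.from Y))
    (Twist.twistProjSpace r (ULift.{u} ℤ) a) (Twist.twistProjSpace r (ULift.{u} ℤ) b)
  exact ⟨k ≪≫ (Scheme.Modules.pullback _).mapIso i⟩

theorem nonempty_twistOver_zero : Nonempty (Twist.twistOver r Y 0 ≅ Coh.structureModule _) := by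
  obtain ⟨e⟩ := W7Hull.nonempty_twistOver_pow r Y 0
  exact ⟨e⟩

theorem isInverseOf_twistOver (a : ℤ) : ClSub.IsInverseOf (Twist.twistOver r Y (-a)) (Twist.twistOver r Y a) := by
  obtain ⟨e⟩ := nonempty_twistOver_add r Y (-a) a 0 (by omega)
  obtain ⟨f⟩ := nonempty_twistOver_zero r Y
  exact ⟨e ≪≫ f⟩

theorem nonempty_twistOver_neg_pow (m : ℕ) :
    Nonempty (CohB1.tensorPow (Twist.twistOver r Y (-1)) m ≅ Twist.twistOver r Y (-(m : ℤ))) := by
  induction m with
  | zero =>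
    obtain ⟨f⟩ := nonempty_twistOver_zero r Y
    exact ⟨f.symm⟩
  | succ m ih =>
    obtain ⟨i⟩ := ih
    obtain ⟨e⟩ := nonempty_twistOver_add r Y (-(m : ℤ)) (-1) (-((m + 1 : ℕ) : ℤ)) (by omega)
    exact ⟨PicGrp.tensorModIso i (Iso.refl _) ≪≫ e⟩

end Groth.Agent.PBundle

end
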