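import Groth.Agent.PBundle.Basic
import Groth.Agent.TMul.Frame
import Groth.Agent.ModDesc.Sect
import Groth.Agent.UfdExtend.Glue
import Groth.Agent.QC.Closure
import Groth.Agent.QC.SubSheaf
import Groth.Agent.ZCl.Basic

/-!
Frames: morphisms by values, coordinates, frames from bases.
-/

set_option autoImplicit false
set_option linter.style.haveILetI false
set_option backward.isDefEq.respectTransparency false
set_option backward.isDefEq.respectTransparency.types false

universe u

open CategoryTheory CategoryTheory.Limits AlgebraicGeometry TopologicalSpace Opposite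
open Groth.Agent.QC (res resO res_res res_smul resO_resO app_res)
open Groth.Agent.WeakAssLib (mgerm mgerm_smul mgerm_res)

noncomputable section

namespace Groth.Agent.PBundle

variable {S P T : Scheme.{u}} {X : Scheme.{u}} {M N : X.Modules} {n : ℕ} {U : X.Opens} {e : Fin n → Γ(M, U)}

lemma coords_res (he : TMul.IsFrame e) {V V' : X.Opens} (h : V' ≤ V) (hV : V ≤ U) (s : Γ(M, V)) (i : Fin n) :
    (he.equiv (h.trans hV)).symm (res M h s) i = resO X h ((he.equiv hV).symm s i) := by
  suffices H : (he.equiv (h.trans hV)).symm (res M h s) = fun i => resO X h ((he.equiv hV).symm s i) from congrFun H i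
  refine he.comb_injective (h.trans hV) ?_
  refine Eq.trans (b := res M h s) ((he.equiv (h.trans hV)).apply_symm_apply _) ?_
  conv_lhs => rw [← (he.equiv hV).apply_symm_apply s]
  change res M h (∑ j, (he.equiv hV).symm s j • res M hV (e j)) = _
  rw [map_sum]
  exact Finset.sum_congr rfl fun j _ => by rw [res_smul, res_res]

lemma coords_eq (he : TMul.IsFrame e) {V : X.Opens} (hV : V ≤ U) {s : Γ(M, V)} {a : Fin n → Γ(X, V)}
    (h : ∑ i, a i • res M hV (e i) = s) : (he.equiv hV).symm s = a :=
  (LinearEquiv.symm_apply_eq _).2 h.symm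

lemma sum_coords (he : TMul.IsFrame e) {V : X.Opens} (hV : V ≤ U) (s : Γ(M, V)) :
    ∑ i, (he.equiv hV).symm s i • res M hV (e i) = s :=
  (he.equiv hV).apply_symm_apply s

/-- the family of maps with given values on a frame -/
def frameMap (he : TMul.IsFrame e) (y : Fin n → Γ(N, U)) (V : X.Opens) (hV : V ≤ U) : Γ(M, V) →ₗ[Γ(X, V)] Γ(N, V) :=
  (Fintype.linearCombination Γ(X, V) fun i => res N hV (y i)).comp (he.equiv hV).symm.toLinearMap

lemma frameMap_apply (he : TMul.IsFrame e) (y : Fin n → Γ(N, U)) (V : X.Opens) (hV : V ≤ U) (s : Γ(M, V)) :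
    frameMap he y V hV s = ∑ i, (he.equiv hV).symm s i • res N hV (y i) := rfl

lemma frameMap_eq (he : TMul.IsFrame e) (y : Fin n → Γ(N, U)) (V : X.Opens) (hV : V ≤ U) {s : Γ(M, V)}
    {a : Fin n → Γ(X, V)} (h : ∑ i, a i • res M hV (e i) = s) :
    frameMap he y V hV s = ∑ i, a i • res N hV (y i) := by
  rw [frameMap_apply, coords_eq he hV h]

lemma frameMap_nat (he : TMul.IsFrame e) (y : Fin n → Γ(N, U)) (V' V : X.Opens) (h : V' ≤ V) (hV : V ≤ U)
    (s : Γ(M, V)) : res N h (frameMap he y V hV s) = frameMap he y V' (h.trans hV) (res M h s) := by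
  rw [frameMap_apply, frameMap_apply, map_sum]
  exact Finset.sum_congr rfl fun i _ => by rw [res_smul, res_res, coords_res]

lemma frameMap_frame (he : TMul.IsFrame e) (y : Fin n → Γ(N, U)) (V : X.Opens) (hV : V ≤ U) (i : Fin n) :
    frameMap he y V hV (res M hV (e i)) = res N hV (y i) := by
  classical
  rw [frameMap_apply]
  simp [TMul.IsFrame.equiv_symm_res]

/-- a morphism with prescribed values on a frame over the whole scheme -/
theorem exists_hom_frame (he : TMul.IsFrame e) (hU : U = ⊤) (y : Fin n → Γ(N, U)) :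
    ∃ φ : M ⟶ N, ∀ i, φ.app U (e i) = y i := by
  obtain ⟨φ, hφ⟩ := ModDesc.exists_hom_of_local (ι := PUnit.{u + 1}) (fun _ => U) (fun _ => ⟨⟨⟩, hU ▸ trivial⟩)
    (fun _ => frameMap he y) (fun _ => frameMap_nat he y) (fun _ _ _ _ _ _ => rfl)
  refine ⟨φ, fun i => ?_⟩
  have h := hφ ⟨⟩ U le_rfl (res M le_rfl (e i))
  rw [frameMap_frame] at h
  simpa only [QC.res_self] using h

/-- morphisms agreeing on a frame over the whole scheme are equal -/
theorem hom_ext_frame (he : TMul.IsFrame e) (hU : U = ⊤) {φ ψ : M ⟶ N} (h : ∀ i, φ.app U (e i) = ψ.app U (e i)) :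
    φ = ψ := by
  refine Scheme.Modules.hom_ext _ _ fun V => ?_
  ext s
  have hV : V ≤ U := hU ▸ le_top
  rw [← sum_coords he hV s, map_sum, map_sum]
  exact Finset.sum_congr rfl fun i _ => by rw [TMul.app_smul, TMul.app_smul, ← app_res, ← app_res, h i]

/-- a basis of the sections over an affine open is a frame -/
theorem isFrame_of_bijective (hM : Coh.IsQCoh M) {D : X.Opens} (hD : IsAffineOpen D) {b : Fin n → Γ(M, D)}
    (h : Function.Bijective fun a : Fin n → Γ(X, D) => ∑ i, a i • b i) : TMul.IsFrame b := by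
  classical
  intro x hx
  let bb : Module.Basis (Fin n) Γ(X, D) Γ(M, D) := Module.Basis.ofEquivFun (LinearEquiv.ofBijective
    (Fintype.linearCombination Γ(X, D) b) h).symm
  have hb : ∀ i, bb i = b i := fun i => by
    simp [bb, Module.Basis.coe_ofEquivFun, Fintype.linearCombination_apply, Pi.single_apply]
  have hF : Groth.Agent.QC.IsLoc M D := Groth.Agent.QC.isLoc_of_isQCoh hD (hM := hM)
  letI := (X.presheaf.germ D x hx).hom.toAlgebra
  haveI := hD.isLocalization_stalk ⟨x, hx⟩
  letI := Module.compHom (M.presheaf.stalk x) (X.presheaf.germ D x hx).hom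
  haveI : IsScalarTower Γ(X, D) (X.presheaf.stalk x) (M.presheaf.stalk x) :=
    ⟨fun a c m => mul_smul ((X.presheaf.germ D x hx).hom a) c m⟩
  let g : Γ(M, D) →ₗ[Γ(X, D)] M.presheaf.stalk x :=
    { toFun := mgerm M hx
      map_add' := map_add _
      map_smul' := fun a s => mgerm_smul M hx a s }
  haveI : IsLocalizedModule (hD.primeIdealOf ⟨x, hx⟩).asIdeal.primeCompl g := by
    refine ⟨fun a => ?_, fun t => ?_, fun {s s'} hs => ?_⟩
    · rw [Module.End.isUnit_iff]
      exact (Groth.Agent.WeakAssLib.isUnit_germ hD hx a.2).smul_bijective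
    · obtain ⟨a, s, ha, has⟩ := Groth.Agent.WeakAssLib.exists_germ hD hF hx t
      exact ⟨(s, ⟨a, ha⟩), has⟩
    · have h0 : mgerm M hx (s - s') = 0 := by rw [map_sub, sub_eq_zero]; exact hs
      obtain ⟨a, ha, has⟩ := (Groth.Agent.WeakAssLib.germ_eq_zero_iff hD hF hx _).1 h0
      exact ⟨⟨a, ha⟩, by change a • s = a • s'; rw [← sub_eq_zero, ← smul_sub, has]⟩
  let bs := bb.ofIsLocalizedModule (X.presheaf.stalk x) (hD.primeIdealOf ⟨x, hx⟩).asIdeal.primeCompl g
  have : (fun c : Fin n → X.presheaf.stalk x => ∑ i, c i • mgerm M hx (b i)) = bs.equivFun.symm := by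
    funext c
    rw [Module.Basis.equivFun_symm_apply]
    exact Finset.sum_congr rfl fun i _ => by rw [Module.Basis.ofIsLocalizedModule_apply, ← hb]; rfl
  rw [this]
  exact bs.equivFun.symm.bijective

/-- sections killed by a map come from the kernel -/
theorem exists_kernel_sect (φ : M ⟶ N) {V : X.Opens} (s : Γ(M, V)) (hs : φ.app V s = 0) :
    ∃ k : Γ(kernel φ, V), (kernel.ι φ).app V k = s := by
  let Z : QC.Sub M :=
    { obj := fun O => LinearMap.ker
        ({ toFun := fun a => φ.app O a, map_add' := map_add _, map_smul' := Scheme.Modules.Hom.app_smul _ } :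
          Γ(M, O) →ₗ[Γ(X, O)] Γ(N, O))
      res_mem := fun {O' O} h {a} (ha : φ.app O a = 0) => by
        change φ.app O' (res M h a) = 0
        rw [← app_res, ha, map_zero]
      local' := fun {O} a ha => QC.section_eq_of_locally fun x hx => by
        obtain ⟨W, hW, hxW, (hz : φ.app W (res M hW a) = 0)⟩ := ha x hx
        exact ⟨W, hW, hxW, (app_res φ hW a).trans (hz.trans (map_zero _).symm)⟩ }
  have hZ : Z.ι ≫ φ = 0 := by
    refine Scheme.Modules.hom_ext _ _ fun O => ?_
    ext a
    exact (show Z.obj O from a).2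
  obtain ⟨a, ha⟩ := (Z.range_ι_app V s).2 hs
  refine ⟨(kernel.lift φ Z.ι hZ).app V a, ?_⟩
  exact (congrArg (fun ψ => Scheme.Modules.Hom.app ψ V a) (kernel.lift_ι φ Z.ι hZ)).trans ha

lemma kernel_app (φ : M ⟶ N) {V : X.Opens} (k : Γ(kernel φ, V)) : φ.app V ((kernel.ι φ).app V k) = 0 :=
  congrArg (fun ψ : kernel φ ⟶ N => ψ.app V k) (kernel.condition φ)

lemma pullSect_res (f : T ⟶ X) (M : X.Modules) {V V' : X.Opens} (h : V' ≤ V) (m : Γ(M, V)) :
    OmegaSh.pullSect f M V' (res M h m) =
      res ((Scheme.Modules.pullback f).obj M) (f.preimage_mono h) (OmegaSh.pullSect f M V m) :=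
  (app_res ((Scheme.Modules.pullbackPushforwardAdjunction f).unit.app M) h m).symm

lemma pullSect_smul (f : T ⟶ X) (M : X.Modules) {V : X.Opens} (r : Γ(X, V)) (m : Γ(M, V)) :
    OmegaSh.pullSect f M V (r • m) = f.app V r • OmegaSh.pullSect f M V m :=
  TMul.app_smul ((Scheme.Modules.pullbackPushforwardAdjunction f).unit.app M) r m

lemma pullbackStructureIso_pullSect (f : T ⟶ X) {V : X.Opens} (r : Γ(X, V)) :
    (PicLoc.pullbackStructureIso f).hom.app (f ⁻¹ᵁ V)
      (OmegaSh.pullSect f (Coh.structureModule X) V (show Γ(Coh.structureModule X, V) from r)) =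
      (show Γ(Coh.structureModule T, f ⁻¹ᵁ V) from f.app V r) := by
  have h : (Scheme.Modules.pullbackPushforwardAdjunction f).unit.app (Coh.structureModule X) ≫
      (Scheme.Modules.pushforward f).map (PicLoc.pullbackStructureIso f).hom =
      SheafOfModules.unitToPushforwardObjUnit f.toRingCatSheafHom :=
    ((Scheme.Modules.pullbackPushforwardAdjunction f).homEquiv_unit _ _ _).symm.trans
      (Equiv.apply_symm_apply _ _)
  exact congrArg (fun t : Coh.structureModule X ⟶ (Scheme.Modules.pushforward f).obj (Coh.structureModule T) =>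
    t.app V (show Γ(Coh.structureModule X, V) from r)) h

/-- values of base changes, any name for the structure map -/
theorem sec'_bc' {E : S.Modules} {O : P.Modules} {π : P ⟶ S} (q : (Scheme.Modules.pullback π).obj E ⟶ O)
    (h : T ⟶ P) {g : T ⟶ S} (hg : h ≫ π = g) {L : T.Modules} (e : (Scheme.Modules.pullback h).obj O ⟶ L)
    (V : S.Opens) (t : Γ(E, V)) :
    sec' g (bc q h hg e) V t = res L (show g ⁻¹ᵁ V ≤ h ⁻¹ᵁ (π ⁻¹ᵁ V) by subst hg; exact le_rfl)
      (e.app (h ⁻¹ᵁ (π ⁻¹ᵁ V)) (OmegaSh.pullSect h O (π ⁻¹ᵁ V) (sec' π q V t))) := by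
  subst hg
  exact (sec'_bc q h e V t).trans (QC.res_self _ _ _).symm

end Groth.Agent.PBundle

end
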