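import Mathlib.RingTheory.Kaehler.Basic
import Mathlib.Algebra.MvPolynomial.PDeriv

/-!
Kähler differentials of an algebra with free coordinates.
-/

set_option autoImplicit false

universe u

open KaehlerDifferential

namespace Groth.Agent.PBundle

/-- coordinates `c` with `R[X] ≅ B` give a basis `D c` of the differentials -/
theorem bijective_kaehler {R B : Type u} [CommRing R] [CommRing B] [Algebra R B] {m : ℕ} (c : Fin m → B)
    (h : Function.Bijective (MvPolynomial.aeval c : MvPolynomial (Fin m) R →ₐ[R] B)) :
    Function.Bijective fun a : Fin m → B => ∑ i, a i • D R B (c i) := by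
  classical
  let e := AlgEquiv.ofBijective _ h
  let Φ : (Fin m → B) →ₗ[B] Ω[B⁄R] := Fintype.linearCombination B fun i => D R B (c i)
  have hΦ : (fun a : Fin m → B => ∑ i, a i • D R B (c i)) = Φ := rfl
  rw [hΦ]
  have hD : ∀ p : MvPolynomial (Fin m) R, D R B (MvPolynomial.aeval c p) ∈ LinearMap.range Φ := by
    intro p
    induction p using MvPolynomial.induction_on with
    | C r => rw [MvPolynomial.aeval_C, Derivation.map_algebraMap]; exact zero_mem _
    | add p p' hp hp' => rw [map_add, map_add]; exact add_mem hp hp'
    | mul_X p i hp =>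
      rw [map_mul, MvPolynomial.aeval_X, Derivation.leibniz]
      refine add_mem (Submodule.smul_mem _ _ ⟨Pi.single i 1, ?_⟩) (Submodule.smul_mem _ _ hp)
      simp [Φ, Fintype.linearCombination_apply, Pi.single_apply]
  let δ : Fin m → Derivation R B B := fun j => Derivation.mk'
    ((e.toLinearMap.comp (MvPolynomial.pderiv j).toLinearMap).comp e.symm.toLinearMap) fun a b => by
      simp only [LinearMap.comp_apply, AlgEquiv.toLinearMap_apply, Derivation.coeFn_coe, map_mul,
        Derivation.leibniz, smul_eq_mul, map_add, AlgEquiv.apply_symm_apply]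
  refine ⟨fun a a' haa => funext fun j => ?_, ?_⟩
  · have hδ : ∀ i, δ j (c i) = if i = j then 1 else 0 := fun i => by
      have hs : e.symm (c i) = MvPolynomial.X i := by
        rw [AlgEquiv.symm_apply_eq]
        exact (MvPolynomial.aeval_X c i).symm
      change e (MvPolynomial.pderiv j (e.symm (c i))) = _
      rw [hs]
      by_cases hij : i = j
      · subst hij
        rw [MvPolynomial.pderiv_X_self, map_one, if_pos rfl]
      · rw [MvPolynomial.pderiv_X_of_ne hij, map_zero, if_neg hij]
    have h1 := congrArg (δ j).liftKaehlerDifferential haa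
    simp only [Φ, Fintype.linearCombination_apply, map_sum, map_smul, Derivation.liftKaehlerDifferential_comp_D,
      hδ, smul_eq_mul, mul_ite, mul_one, mul_zero, Finset.sum_ite_eq', Finset.mem_univ, if_true] at h1
    exact h1
  · rw [← LinearMap.range_eq_top, eq_top_iff, ← span_range_derivation R B, Submodule.span_le]
    rintro _ ⟨b, rfl⟩
    obtain ⟨p, rfl⟩ := h.2 b
    exact hD p

end Groth.Agent.PBundle
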