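import Groth.Agent.PBundle.Chart
import Groth.Agent.PBundle.KaehlerBasis
import Groth.Agent.OmegaLib.Universal
import Groth.Agent.RelTilde.Tensor
import Groth.Agent.CohFinite.Serre

/-!
The Euler sequence of a projective bundle: `Ω(1)` is the kernel of the universal quotient.
-/

set_option autoImplicit false
set_option linter.style.haveILetI false
set_option backward.isDefEq.respectTransparency false
set_option backward.isDefEq.respectTransparency.types false

universe u

open CategoryTheory CategoryTheory.Limits AlgebraicGeometry TopologicalSpace Opposite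
open Groth.Agent.QC (res resO res_res res_smul resO_resO app_res)
open Groth.Agent.WeakAssLib (mgerm mgerm_smul mgerm_res)

noncomputable section

namespace Groth.Agent.PBundle

variable {S P : Scheme.{u}} {E : S.Modules} {O : P.Modules} {π : P ⟶ S}

theorem isFrame_res {X : Scheme.{u}} {M : X.Modules} {n : ℕ} {U : X.Opens} {e : Fin n → Γ(M, U)}
    (he : TMul.IsFrame e) {U' : X.Opens} (h : U' ≤ U) : TMul.IsFrame fun i => res M h (e i) := fun x hx => by
  have := he x (h hx)
  simpa only [mgerm_res] using this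

/-- a multiple of a generator generates where the coefficient is invertible -/
theorem isGen_of_coeff {V₀ V : P.Opens} {e₀ : Γ(O, V₀)} (he₀ : TMul.IsGen e₀) (hV : V ≤ V₀) {U' : P.Opens}
    (hVU : V ≤ U') {σ : Γ(O, U')} {c : Γ(P, V)} (hc : c • res O hV e₀ = res O hVU σ) :
    TMul.IsGen (res O ((P.basicOpen_le c).trans hVU) σ) := by
  intro V' hV'
  obtain ⟨v, hv⟩ : IsUnit (resO P (hV'.trans (P.basicOpen_le c)) c) := by
    rw [← resO_resO hV' (P.basicOpen_le c)]
    exact (RingedSpace.isUnit_res_basicOpen _ c).map _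
  have h2 := congrArg (res O (hV'.trans (P.basicOpen_le c))) hc
  simp only [res_smul, res_res] at h2
  rw [← hv] at h2
  simp only [res_res, ← h2, smul_smul]
  exact (he₀ V' _).comp v.mulRight.bijective

/-- near every point over a framed open some frame vector generates the quotient -/
theorem exists_mem_W {q : (Scheme.Modules.pullback π).obj E ⟶ O} (hP : KRR.IsProjBundle π E O q) {U : S.Opens}
    {n : ℕ} {t : Fin n → Γ(E, U)} (ht : TMul.IsFrame t) {x : P} (hx : x ∈ π ⁻¹ᵁ U) :
    ∃ (k : Fin n) (V : P.Opens) (hV : V ≤ π ⁻¹ᵁ U), x ∈ V ∧ TMul.IsGen (res O hV (sec' π q U (t k))) := by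
  classical
  haveI := hP.epi
  obtain ⟨V₀, e₀, hxV₀, he₀⟩ := TMul.exists_isGen (isInvertible hP) x
  have hsur := (ModuleCat.epi_iff_surjective ((DerSch.stalkFunctor P x).map q)).1 inferInstance
  obtain ⟨y, hy⟩ := hsur (O.presheaf.germ V₀ x hxV₀ e₀)
  obtain ⟨V₁, hxV₁, y, rfl⟩ :=
    TopCat.Presheaf.exists_germ_eq (C := Ab.{u}) ((Scheme.Modules.pullback π).obj E).presheaf (x := x) y
  have e1 : Algz.stalkMapAb q x (((Scheme.Modules.pullback π).obj E).presheaf.germ V₁ x hxV₁ y) =
      O.presheaf.germ V₁ x hxV₁ (q.app V₁ y) :=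
    TopCat.Presheaf.stalkFunctor_map_germ_apply V₁ x hxV₁ q.mapPresheaf y
  obtain ⟨V', hxV', i₁, i₂, heq⟩ := TopCat.Presheaf.germ_eq O.presheaf x hxV₁ hxV₀ _ _ (e1.symm.trans hy)
  let V := V' ⊓ π ⁻¹ᵁ U
  have hxV : x ∈ V := ⟨hxV', hx⟩
  have hV₁ : V ≤ V₁ := inf_le_left.trans i₁.le
  have hV₀ : V ≤ V₀ := inf_le_left.trans i₂.le
  have hVU : V ≤ π ⁻¹ᵁ U := inf_le_right
  have hqy : q.app V (res _ hV₁ y) = res O hV₀ e₀ := by
    have h0 := congrArg (res O (inf_le_left : V ≤ V')) (show res O i₁.le (q.app V₁ y) = res O i₂.le e₀ from heq)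
    rw [res_res, res_res] at h0
    rw [← app_res]
    exact h0
  have hp := isFrame_res (ht.pullback π) hVU
  obtain ⟨a, ha⟩ := hp.comb_surjective le_rfl (res _ hV₁ y)
  choose c hc using fun l => (he₀ V hV₀).2 (res O hVU (sec' π q U (t l)))
  simp only at hc
  have hsum : ∑ l, a l * c l = 1 := by
    refine (he₀ V hV₀).1 ?_
    simp only [Finset.sum_smul, mul_smul, hc, one_smul]
    rw [← hqy, ← ha, map_sum]
    refine Finset.sum_congr rfl fun l _ => ?_
    rw [QC.res_self, TMul.app_smul, ← app_res]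
    rfl
  obtain ⟨k, hk⟩ : ∃ k, IsUnit (P.presheaf.germ V x hxV (c k)) := by
    by_contra hno
    simp only [not_exists] at hno
    have h1 : (P.presheaf.germ V x hxV).hom (∑ l, a l * c l) ∈ IsLocalRing.maximalIdeal (P.presheaf.stalk x) := by
      rw [map_sum]
      refine Submodule.sum_mem _ fun l _ => ?_
      rw [map_mul]
      exact Ideal.mul_mem_left _ _ ((IsLocalRing.mem_maximalIdeal _).2 (hno l))
    rw [hsum, map_one] at h1
    exact (IsLocalRing.maximalIdeal.isMaximal (P.presheaf.stalk x)).ne_top ((Ideal.eq_top_iff_one _).2 h1)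
  exact ⟨k, P.basicOpen (c k), (P.basicOpen_le _).trans hVU, (P.mem_basicOpen _ x hxV).2 hk,
    isGen_of_coeff he₀ hV₀ hVU (hc k)⟩

/-- a framed affine open of the base together with a vector of the frame -/
structure ChartData (E : S.Modules) where
  /-- rank minus one -/
  m : ℕ
  /-- the open -/
  U : S.Opens
  hU : IsAffineOpen U
  /-- the frame -/
  t : Fin (m + 1) → Γ(E, U)
  ht : TMul.IsFrame t
  /-- the chosen vector -/
  k : Fin (m + 1)

theorem exists_chartData {q : (Scheme.Modules.pullback π).obj E ⟶ O} (hP : KRR.IsProjBundle π E O q)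
    (hE : FlatMod.IsFinLocFree E) (x : P) : ∃ C : ChartData E, x ∈ W q C.t C.k := by
  obtain ⟨U₀, n, t₀, hxU₀, ht₀⟩ := TMul.exists_isFrame hE (π x)
  obtain ⟨U, hU, hxU, hUU₀⟩ := exists_isAffineOpen_mem_and_subset hxU₀
  have hUU₀' : U ≤ U₀ := hUU₀
  obtain ⟨k, V, hV, hxV, hg⟩ := exists_mem_W hP (isFrame_res ht₀ hUU₀') (x := x) hxU
  obtain ⟨m, rfl⟩ : ∃ m, n = m + 1 := ⟨n - 1, by have := k.pos; omega⟩
  exact ⟨⟨m, U, hU, fun i => res E hUU₀' (t₀ i), isFrame_res ht₀ hUU₀', k⟩, le_W q _ k hV hg hxV⟩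

variable (q : (Scheme.Modules.pullback π).obj E ⟶ O) {Ω : P.Modules} (d : OmegaSh.Der π Ω) (C : ChartData E)

/-- the frame of the inverse image on a chart -/
def pv (l : Fin (C.m + 1)) : Γ((Scheme.Modules.pullback π).obj E, W q C.t C.k) :=
  res _ (W_le q C.t C.k) (OmegaSh.pullSect π E C.U (C.t l))

theorem isFrame_pv : TMul.IsFrame (pv q C) := isFrame_res (C.ht.pullback π) _

lemma app_pv (l : Fin (C.m + 1)) : q.app (W q C.t C.k) (pv q C l) = co q C.t C.k l • gk q C.t C.k := by
  rw [co_smul, pv, ← app_res]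
  rfl

/-- differentials of the coordinates, twisted by the generator -/
def dco (l : Fin (C.m + 1)) : Γ(CohB1.tensorMod Ω O, W q C.t C.k) :=
  TMul.tm (d.app (W q C.t C.k) (co q C.t C.k l)) (gk q C.t C.k)

/-- the local second fundamental form -/
def phi (V : P.Opens) (hV : V ≤ W q C.t C.k) :
    Γ((Scheme.Modules.pullback π).obj E, V) →ₗ[Γ(P, V)] Γ(CohB1.tensorMod Ω O, V) :=
  frameMap (isFrame_pv q C) (dco q d C) V hV

lemma sum_tm {X : Scheme.{u}} {M N : X.Modules} {V : X.Opens} {ι : Type} (s : Finset ι) (f : ι → Γ(M, V)) (n : Γ(N, V)) :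
    TMul.tm (∑ i ∈ s, f i) n = ∑ i ∈ s, TMul.tm (f i) n := by
  classical
  induction s using Finset.induction_on with
  | empty => simp [TMul.zero_tm]
  | insert a s ha ih => rw [Finset.sum_insert ha, Finset.sum_insert ha, TMul.tm_add, ih]

lemma phi_sum {V : P.Opens} (hV : V ≤ W q C.t C.k) (a : Fin (C.m + 1) → Γ(P, V))
    {s : Γ((Scheme.Modules.pullback π).obj E, V)} (h : ∑ l, a l • res _ hV (pv q C l) = s) :
    phi q d C V hV s =
      TMul.tm (∑ l, a l • d.app V (resO P hV (co q C.t C.k l))) (res O hV (gk q C.t C.k)) := by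
  rw [phi, frameMap_eq (isFrame_pv q C) (dco q d C) V hV h, sum_tm]
  refine Finset.sum_congr rfl fun l _ => ?_
  rw [dco, TMul.res_tm, OmegaLib.res_app, TMul.smul_tm]

lemma app_comb {V : P.Opens} (hV : V ≤ W q C.t C.k) (a : Fin (C.m + 1) → Γ(P, V)) :
    q.app V (∑ l, a l • res _ hV (pv q C l)) =
      (∑ l, a l * resO P hV (co q C.t C.k l)) • res O hV (gk q C.t C.k) := by
  rw [map_sum, Finset.sum_smul]
  refine Finset.sum_congr rfl fun l _ => ?_
  rw [TMul.app_smul, ← app_res, app_pv, res_smul, mul_smul]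

/-- value on pulled back sections -/
theorem phi_pullSect {U' : S.Opens} (t' : Γ(E, U')) {V : P.Opens} (hV : V ≤ W q C.t C.k) (hV' : V ≤ π ⁻¹ᵁ U')
    (c' : Γ(P, V)) (hc' : c' • res O hV (gk q C.t C.k) = res O hV' (sec' π q U' t')) :
    phi q d C V hV (res _ hV' (OmegaSh.pullSect π E U' t')) = TMul.tm (d.app V c') (res O hV (gk q C.t C.k)) := by
  classical
  let U'' := C.U ⊓ U'
  have hV'' : V ≤ π ⁻¹ᵁ U'' := fun x hx => ⟨W_le q C.t C.k (hV hx), hV' hx⟩
  have hU''₁ : U'' ≤ C.U := inf_le_left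
  have hU''₂ : U'' ≤ U' := inf_le_right
  obtain ⟨r, hr⟩ := C.ht.comb_surjective hU''₁ (res E hU''₂ t')
  let a : Fin (C.m + 1) → Γ(P, V) := fun l => π.appLE U'' V hV'' (r l)
  have h0 : res _ hV'' (OmegaSh.pullSect π E U'' (res E hU''₂ t')) = res _ hV' (OmegaSh.pullSect π E U' t') := by
    rw [pullSect_res, res_res]
  have ha : ∑ l, a l • res _ hV (pv q C l) = res _ hV' (OmegaSh.pullSect π E U' t') := by
    rw [← h0, ← hr, map_sum, map_sum]
    refine Finset.sum_congr rfl fun l _ => ?_
    rw [pullSect_smul, res_smul, pullSect_res, pv, res_res, res_res]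
    rfl
  rw [phi_sum q d C hV a ha]
  congr 1
  have hsum : ∑ l, a l * resO P hV (co q C.t C.k l) = c' := by
    refine ((isGen_gk q C.t C.k) V hV).1 ?_
    change _ • res O hV _ = c' • res O hV _
    rw [← app_comb, ha, hc', ← app_res]
    rfl
  rw [← hsum, map_sum]
  refine Finset.sum_congr rfl fun l _ => ?_
  rw [OmegaLib.app_mul, OmegaLib.app_appLE d hV'' (r l), smul_zero, add_zero]

/-- the local maps agree on the kernel -/
theorem agree (C' : ChartData E) {V : P.Opens} (h : V ≤ W q C.t C.k) (h' : V ≤ W q C'.t C'.k)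
    (s : Γ(kernel q, V)) :
    phi q d C V h ((kernel.ι q).app V s) = phi q d C' V h' ((kernel.ι q).app V s) := by
  classical
  set z := (kernel.ι q).app V s with hz
  set a := ((isFrame_pv q C').equiv h').symm z
  have ha : ∑ l, a l • res _ h' (pv q C' l) = z := sum_coords (isFrame_pv q C') h' z
  let g := res O h (gk q C.t C.k)
  let g' := res O h' (gk q C'.t C'.k)
  obtain ⟨v, hv⟩ : ∃ v : Γ(P, V), v • g = g' := ((isGen_gk q C.t C.k) V h).2 g'
  have h0 : ∑ l, a l * resO P h' (co q C'.t C'.k l) = 0 := by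
    refine ((isGen_gk q C'.t C'.k) V h').1 ?_
    change _ • res O h' _ = (0 : Γ(P, V)) • res O h' _
    rw [← app_comb, ha, hz, kernel_app, zero_smul]
  have h1 : ∀ l, phi q d C V h (res _ h' (pv q C' l)) =
      TMul.tm (d.app V (resO P h' (co q C'.t C'.k l) * v)) g := fun l => by
    rw [pv, res_res]
    refine phi_pullSect q d C _ h _ _ ?_
    rw [mul_smul]
    change resO P h' _ • (v • g) = _
    rw [hv, ← res_smul, co_smul, res_res]
  rw [phi_sum q d C' h' a ha, ← ha, map_sum]
  simp only [map_smul, h1]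
  change _ = TMul.tm _ g'
  rw [← hv, TMul.tm_smul, ← TMul.smul_tm]
  simp only [OmegaLib.app_mul, ← TMul.smul_tm, ← sum_tm, smul_add, Finset.sum_add_distrib, smul_smul, ← Finset.sum_smul]
  rw [h0, zero_smul, zero_add, Finset.smul_sum]
  simp only [smul_smul, mul_comm v]

variable {q d}

/-- differentials on a chart are free on the coordinates -/
theorem isFrame_d (hP : KRR.IsProjBundle π E O q) (hd : OmegaSh.IsUniversal d) :
    TMul.IsFrame fun i : Fin C.m => d.app (W q C.t C.k) (co q C.t C.k (C.k.succAbove i)) := by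
  obtain ⟨hW, hev⟩ := chart (k := C.k) hP C.hU C.ht
  refine isFrame_of_bijective (OmegaLib.isQCoh_of_isUniversal hd) hW ?_
  letI : Algebra Γ(S, C.U) Γ(P, W q C.t C.k) := (π.appLE C.U (W q C.t C.k) (W_le q C.t C.k)).hom.toAlgebra
  obtain ⟨T, hT, hTd⟩ := OmegaLib.exists_sectEquiv (W_le q C.t C.k) hd hW C.hU
  have hb := bijective_kaehler (R := Γ(S, C.U)) (fun i => co q C.t C.k (C.k.succAbove i)) hev
  have : (fun a : Fin C.m → Γ(P, W q C.t C.k) => ∑ i, a i • d.app (W q C.t C.k) (co q C.t C.k (C.k.succAbove i))) =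
      T.symm ∘ fun a => ∑ i, a i • KaehlerDifferential.D Γ(S, C.U) Γ(P, W q C.t C.k) (co q C.t C.k (C.k.succAbove i)) := by
    funext a
    refine (AddEquiv.eq_symm_apply T).2 ?_
    rw [map_sum]
    exact Finset.sum_congr rfl fun i _ => by rw [hT, hTd]
  rw [this]
  exact T.symm.bijective.comp hb

theorem bijective_phi (hP : KRR.IsProjBundle π E O q) (hd : OmegaSh.IsUniversal d) (V : P.Opens)
    (hV : V ≤ W q C.t C.k) : Function.Bijective fun s : Γ(kernel q, V) => phi q d C V hV ((kernel.ι q).app V s) := by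
  classical
  have hD := isFrame_d C hP hd
  let g := res O hV (gk q C.t C.k)
  have hck : resO P hV (co q C.t C.k C.k) = 1 := by rw [co_self, map_one]
  have hd1 : d.app V (1 : Γ(P, V)) = 0 := by
    have := OmegaLib.app_mul d V 1 1
    simpa using this
  have key : ∀ (a : Fin (C.m + 1) → Γ(P, V)), ∑ l, a l • d.app V (resO P hV (co q C.t C.k l)) =
      ∑ i, a (C.k.succAbove i) • res Ω hV (d.app (W q C.t C.k) (co q C.t C.k (C.k.succAbove i))) := fun a => by
    rw [Fin.sum_univ_succAbove _ C.k, hck, hd1, smul_zero, zero_add]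
    exact Finset.sum_congr rfl fun i _ => by rw [OmegaLib.res_app]
  have htm : Function.Bijective fun w : Γ(Ω, V) => TMul.tm w g := TMul.tm_bijective (isGen_gk q C.t C.k) V hV
  constructor
  · refine (injective_iff_map_eq_zero
      ((phi q d C V hV).toAddMonoidHom.comp ((kernel.ι q).app V).hom)).2 fun s hs => ?_
    change phi q d C V hV ((kernel.ι q).app V s) = 0 at hs
    refine QC.app_injective_of_mono (kernel.ι q) V ?_
    rw [map_zero]
    obtain ⟨a, ha⟩ := (isFrame_pv q C).comb_surjective hV ((kernel.ι q).app V s)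
    rw [phi_sum q d C hV a ha, ← TMul.zero_tm g] at hs
    have h1 := htm.1 hs
    rw [key] at h1
    have h2 : (fun i => a (C.k.succAbove i)) = 0 := hD.comb_injective hV (h1.trans (by simp))
    have h3 : ∑ l, a l * resO P hV (co q C.t C.k l) = 0 := by
      refine ((isGen_gk q C.t C.k) V hV).1 ?_
      change _ • res O hV _ = (0 : Γ(P, V)) • res O hV _
      rw [← app_comb, ha, kernel_app, zero_smul]
    rw [Fin.sum_univ_succAbove _ C.k, hck, mul_one,
      Finset.sum_eq_zero (fun i _ => by rw [show a (C.k.succAbove i) = 0 from congrFun h2 i, zero_mul]), add_zero] at h3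
    rw [← ha]
    refine Finset.sum_eq_zero fun l _ => ?_
    rcases Fin.eq_self_or_eq_succAbove C.k l with rfl | ⟨i, rfl⟩
    · rw [h3, zero_smul]
    · rw [show a (C.k.succAbove i) = 0 from congrFun h2 i, zero_smul]
  · intro y
    obtain ⟨w, rfl⟩ := htm.2 y
    obtain ⟨b, hb⟩ := hD.comb_surjective hV w
    let a : Fin (C.m + 1) → Γ(P, V) :=
      C.k.insertNth (-∑ i, b i * resO P hV (co q C.t C.k (C.k.succAbove i))) b
    have hak : a C.k = -∑ i, b i * resO P hV (co q C.t C.k (C.k.succAbove i)) := Fin.insertNth_apply_same _ _ _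
    have hai : ∀ i, a (C.k.succAbove i) = b i := fun i => Fin.insertNth_apply_succAbove _ _ _ _
    have h0 : q.app V (∑ l, a l • res _ hV (pv q C l)) = 0 := by
      rw [app_comb, Fin.sum_univ_succAbove _ C.k, hck, hak, mul_one]
      simp only [hai, neg_add_cancel, zero_smul]
    obtain ⟨s, hs⟩ := exists_kernel_sect q _ h0
    refine ⟨s, ?_⟩
    change phi q d C V hV ((kernel.ι q).app V s) = TMul.tm w g
    rw [hs, phi_sum q d C hV a rfl, key]
    simp only [hai]
    rw [hb]

/-- `Ω(1)` is the kernel of the universal quotient -/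
theorem euler_sequence (hP : KRR.IsProjBundle π E O q) (hE : FlatMod.IsFinLocFree E) (hd : OmegaSh.IsUniversal d) :
    Nonempty (CohB1.tensorMod Ω O ≅ kernel q) := by
  choose C hC using exists_chartData hP hE
  obtain ⟨γ, hγ⟩ := ModDesc.exists_hom_of_local (M := kernel q) (N := CohB1.tensorMod Ω O) (ι := P)
    (fun x => W q (C x).t (C x).k) (fun x => ⟨x, hC x⟩)
    (fun x V hV => (phi q d (C x) V hV).comp
      (show Γ(kernel q, V) →ₗ[Γ(P, V)] Γ((Scheme.Modules.pullback π).obj E, V) from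
        { toFun := fun s => (kernel.ι q).app V s, map_add' := map_add _,
          map_smul' := Scheme.Modules.Hom.app_smul _ }))
    (fun x V' V h hV s => by
      refine (frameMap_nat (isFrame_pv q (C x)) (dco q d (C x)) V' V h hV _).trans ?_
      exact congrArg (frameMap (isFrame_pv q (C x)) (dco q d (C x)) V' _) (app_res (kernel.ι q) h s))
    fun x x' V h h' s => agree q d (C x) (C x') h h' s
  haveI : IsIso γ := RelTilde.isIso_of_bijective_near γ fun x => ⟨W q (C x).t (C x).k, hC x, fun V hV => by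
    rw [show (γ.app V : Γ(kernel q, V) → Γ(CohB1.tensorMod Ω O, V)) = _ from funext (hγ x V hV)]
    exact bijective_phi (C x) hP hd V hV⟩
  exact ⟨(asIso γ).symm⟩

end Groth.Agent.PBundle

end
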