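import Groth.Agent.PBundle.FrameTools
import Groth.Agent.CurveRR.Curve
import Mathlib.Algebra.MvPolynomial.Eval
import Mathlib.Data.Fin.Tuple.Basic

/-!
The standard charts of a projective bundle.
-/

set_option autoImplicit false
set_option linter.style.haveILetI false
set_option backward.isDefEq.respectTransparency false
set_option backward.isDefEq.respectTransparency.types false

universe u

open CategoryTheory CategoryTheory.Limits AlgebraicGeometry TopologicalSpace Opposite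
open Groth.Agent.QC (res resO res_res res_smul resO_resO app_res)

noncomputable section

namespace Groth.Agent.PBundle

variable {S P : Scheme.{u}} {E : S.Modules} {O : P.Modules} {π : P ⟶ S}
  (q : (Scheme.Modules.pullback π).obj E ⟶ O) {m : ℕ} {U : S.Opens} (t : Fin (m + 1) → Γ(E, U)) (k : Fin (m + 1))

/-- the chart where the `k`-th frame vector generates the quotient -/
def W : P.Opens := sSup {V | ∃ hV : V ≤ π ⁻¹ᵁ U, TMul.IsGen (res O hV (sec' π q U (t k)))}

lemma W_le : W q t k ≤ π ⁻¹ᵁ U := sSup_le fun _ ⟨hV, _⟩ => hV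

/-- the generator on the chart -/
def gk : Γ(O, W q t k) := res O (W_le q t k) (sec' π q U (t k))

lemma isGen_gk : TMul.IsGen (gk q t k) := by
  refine Groth.Agent.UfdExtend.isGen_of_locally fun x hx => ?_
  obtain ⟨V, ⟨hV, hg⟩, hxV⟩ := Opens.mem_sSup.mp hx
  refine ⟨V, le_sSup (α := P.Opens) ⟨hV, hg⟩, hxV, ?_⟩
  rw [gk, res_res]
  exact hg

lemma le_W {V : P.Opens} (hV : V ≤ π ⁻¹ᵁ U) (h : TMul.IsGen (res O hV (sec' π q U (t k)))) : V ≤ W q t k :=
  le_sSup ⟨hV, h⟩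

lemma exists_co (l : Fin (m + 1)) :
    ∃ c : Γ(P, W q t k), c • gk q t k = res O (W_le q t k) (sec' π q U (t l)) := by
  obtain ⟨c, hc⟩ := ((isGen_gk q t k) (W q t k) le_rfl).2 (res O (W_le q t k) (sec' π q U (t l)))
  simp only [QC.res_self] at hc
  exact ⟨c, hc⟩

/-- the coordinates on the chart -/
def co (l : Fin (m + 1)) : Γ(P, W q t k) := (exists_co q t k l).choose

lemma co_smul (l : Fin (m + 1)) : co q t k l • gk q t k = res O (W_le q t k) (sec' π q U (t l)) :=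
  (exists_co q t k l).choose_spec

lemma co_self : co q t k k = 1 := by
  refine ((isGen_gk q t k) (W q t k) le_rfl).1 ?_
  simp only [QC.res_self, one_smul]
  exact co_smul q t k k

/-- the coordinate ring of the chart -/
def ev : MvPolynomial (Fin m) Γ(S, U) →+* Γ(P, W q t k) :=
  MvPolynomial.eval₂Hom (π.appLE U (W q t k) (W_le q t k)).hom fun i => co q t k (k.succAbove i)

variable {q t k}

lemma appTop_eq {T : Scheme.{u}} {W : P.Opens} (h₀ : T ⟶ W.toScheme) {h : T ⟶ P} (hh : h₀ ≫ W.ι = h)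
    (hW : h ⁻¹ᵁ W = ⊤) (a : Γ(P, W)) (y : Γ(T, ⊤))
    (h3 : (show Γ(T, h ⁻¹ᵁ W) from h.app W a) = resO T (le_top : h ⁻¹ᵁ W ≤ ⊤) y) :
    h₀.appTop (W.topIso.inv a) = y := by
  have h4 := congrArg (resO T hW.ge) h3
  rw [resO_resO, QC.resO_self] at h4
  rw [← h4]
  subst hh
  have h5 : ∀ (V : W.toScheme.Opens) (hV : V = ⊤) (x : Γ(W.toScheme, V)) (hle : (⊤ : T.Opens) ≤ h₀ ⁻¹ᵁ V),
      h₀.appTop (resO W.toScheme hV.ge x) = resO T hle (h₀.app V x) := by
    rintro V rfl x hle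
    rw [QC.resO_self]
    exact (QC.resO_self (X := T) _ _).symm
  rw [Scheme.Hom.comp_app]
  refine Eq.trans ?_ (h5 (W.ι ⁻¹ᵁ W) (eq_top_iff.2 fun x _ => x.2) (W.ι.app W a) _)
  congr 1
  rw [Scheme.Opens.ι_app, Scheme.Opens.topIso_inv]
  change _ = resO P (W.ι.image_mono (fun x _ => x.2)) (resO P (W.ι.image_preimage_le W) a)
  rw [resO_resO]
  rfl

lemma pulled_coord {T : Scheme.{u}} (h : T ⟶ P) (e : (Scheme.Modules.pullback h).obj O ⟶ Coh.structureModule T)
    {V V' : P.Opens} (hV : V' ≤ V) {σ τ : Γ(O, V)} {c : Γ(P, V')} (hc : c • res O hV σ = res O hV τ) (b : Γ(T, ⊤))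
    (hσ : e.app (h ⁻¹ᵁ V) (OmegaSh.pullSect h O V σ) =
      res (Coh.structureModule T) le_top (show Γ(Coh.structureModule T, ⊤) from (1 : Γ(T, ⊤))))
    (hτ : e.app (h ⁻¹ᵁ V) (OmegaSh.pullSect h O V τ) =
      res (Coh.structureModule T) le_top (show Γ(Coh.structureModule T, ⊤) from b)) :
    (show Γ(T, h ⁻¹ᵁ V') from h.app V' c) = resO T (le_top : h ⁻¹ᵁ V' ≤ ⊤) b := by
  have h3 := congrArg (fun a => e.app (h ⁻¹ᵁ V') (OmegaSh.pullSect h O V' a)) hc
  simp only [pullSect_smul, pullSect_res, TMul.app_smul] at h3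
  rw [← app_res e, ← app_res e, hσ, hτ, res_res, res_res] at h3
  change (show Γ(T, h ⁻¹ᵁ V') from h.app V' c) * resO T (le_top : h ⁻¹ᵁ V' ≤ ⊤) 1 =
    resO T (le_top : h ⁻¹ᵁ V' ≤ ⊤) b at h3
  rwa [map_one, mul_one] at h3

lemma app_one {X : Scheme.{u}} {L : X.Modules} (φ : Coh.structureModule X ⟶ L) {V V₁ : X.Opens} (hV : V ≤ V₁)
    (c : Γ(X, ⊤)) :
    φ.app V (res (Coh.structureModule X) le_top (show Γ(Coh.structureModule X, ⊤) from c)) =
      resO X (le_top : V ≤ ⊤) c • res L hV (φ.app V₁ (show Γ(Coh.structureModule X, V₁) from (1 : Γ(X, V₁)))) := by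
  rw [app_res φ hV, ← TMul.app_smul]
  refine congrArg (φ.app V) ?_
  change resO X le_top c = resO X (le_top : V ≤ ⊤) c * resO X hV 1
  rw [map_one, mul_one]

lemma res_topIso {Wo : P.Opens} {V : Wo.toScheme.Opens} (hV : V ≤ Wo.ι ⁻¹ᵁ Wo) (a : Γ(P, Wo)) :
    resO Wo.toScheme (le_top : V ≤ ⊤) (Wo.topIso.inv a) = resO Wo.toScheme hV (Wo.ι.app Wo a) := by
  rw [Scheme.Opens.topIso_inv, Scheme.Opens.ι_app]
  change resO P (Wo.ι.image_mono (le_top : V ≤ ⊤)) (resO P (Wo.ι_image_top.le) a) =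
    resO P (Wo.ι.image_mono hV) (resO P (Wo.ι.image_preimage_le Wo) a)
  rw [resO_resO, resO_resO]

/-- a generator trivialises the inverse image to its open -/
theorem exists_unitIso {Wo : P.Opens} {g : Γ(O, Wo)} (hg : TMul.IsGen g) :
    ∃ ω : Coh.structureModule Wo.toScheme ≅ (Scheme.Modules.pullback Wo.ι).obj O,
      ω.hom.app (Wo.ι ⁻¹ᵁ Wo) (show Γ(Coh.structureModule Wo.toScheme, Wo.ι ⁻¹ᵁ Wo) from
        (1 : Γ(Wo.toScheme, Wo.ι ⁻¹ᵁ Wo))) = OmegaSh.pullSect Wo.ι O Wo g := by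
  have hr : Wo.ι.opensRange ≤ Wo := (Scheme.Opens.opensRange_ι Wo).le
  let ω₀ : Coh.structureModule Wo.toScheme ⟶ O.restrict Wo.ι := InvGen.ofGen Wo.ι O hr g
  haveI : IsIso ω₀ := by
    rw [Scheme.Modules.Hom.isIso_iff_isIso_app]
    intro V
    rw [ConcreteCategory.isIso_iff_bijective]
    exact (hg (Wo.ι ''ᵁ V) ((Wo.ι.image_le_opensRange V).trans hr)).comp
      (ConcreteCategory.bijective_of_isIso (Wo.ι.appIso V).inv)
  refine ⟨asIso ω₀ ≪≫ (Scheme.Modules.restrictFunctorIsoPullback Wo.ι).app O, ?_⟩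
  have h1 : InvGen.genApp Wo.ι O hr g (Wo.ι ⁻¹ᵁ Wo) (1 : Γ(Wo.toScheme, Wo.ι ⁻¹ᵁ Wo)) =
      res O (Wo.ι.image_preimage_le Wo) g := by
    simp only [InvGen.genApp, AddMonoidHom.mk'_apply]
    rw [map_one, one_smul]
  exact (congrArg (((Scheme.Modules.restrictFunctorIsoPullback Wo.ι).hom.app O).app _) h1).trans
    (QC.restrictIso_hom_pullSect Wo.ι O Wo g)

/-- normalised tuples of functions are classified by morphisms to the chart -/
theorem exists_lift (hP : KRR.IsProjBundle π E O q) (ht : TMul.IsFrame t) {T : Scheme.{u}} (g : T ⟶ S)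
    (hgU : g ⁻¹ᵁ U = ⊤) (y : Fin (m + 1) → Γ(T, ⊤)) (hyk : y k = 1) :
    ∃ h₀ : T ⟶ (W q t k).toScheme, (h₀ ≫ (W q t k).ι) ≫ π = g ∧
      (∀ l, h₀.appTop ((W q t k).topIso.inv (co q t k l)) = y l) ∧
      ∀ b : (W q t k).toScheme ⟶ T, b ≫ g = (W q t k).ι ≫ π →
        (∀ l, b.appTop (y l) = (W q t k).topIso.inv (co q t k l)) → b ≫ h₀ = 𝟙 _ := by
  classical
  let W₀ := W q t k
  -- the universal normalised quotient on `T`
  have hp := ht.pullback g
  obtain ⟨s, hs⟩ := exists_hom_frame (N := Coh.structureModule T) hp hgU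
    fun l => res (Coh.structureModule T) le_top (show Γ(Coh.structureModule T, ⊤) from y l)
  have hs' : ∀ l, s.app (g ⁻¹ᵁ U) (OmegaSh.pullSect g E U (t l)) =
      res (Coh.structureModule T) le_top (show Γ(Coh.structureModule T, ⊤) from y l) := hs
  haveI : Epi s := by
    refine InvGen.epi_of_locally s fun V a x hx => ⟨V, le_rfl, hx, ?_⟩
    refine ⟨(show Γ(T, V) from a) • res _ (show V ≤ g ⁻¹ᵁ U from hgU ▸ le_top) (OmegaSh.pullSect g E U (t k)), ?_⟩
    rw [TMul.app_smul, ← app_res, hs' k, res_res, QC.res_self, hyk]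
    change (show Γ(T, V) from a) * resO T le_top 1 = _
    rw [map_one, mul_one]
  obtain ⟨h, hh, e, he⟩ := exists_hom hP g
    (CurveRR.isFinLocFreeOfRank_one (PicLoc.isInvertible_structureModule T)) s
  have hle : ∀ V, V ≤ g ⁻¹ᵁ U := fun V => hgU ▸ le_top
  have hhU : h ⁻¹ᵁ (π ⁻¹ᵁ U) = ⊤ := by rw [← Scheme.Hom.comp_preimage, hh, hgU]
  have hval : ∀ l, e.hom.app (h ⁻¹ᵁ (π ⁻¹ᵁ U)) (OmegaSh.pullSect h O (π ⁻¹ᵁ U) (sec' π q U (t l))) =
      res (Coh.structureModule T) le_top (show Γ(Coh.structureModule T, ⊤) from y l) := fun l => by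
    have h1 : sec' g s U (t l) = res (Coh.structureModule T) le_top (show Γ(Coh.structureModule T, ⊤) from y l) := hs l
    rw [← he, sec'_bc'] at h1
    have h2 := congrArg (res (Coh.structureModule T) (show h ⁻¹ᵁ (π ⁻¹ᵁ U) ≤ g ⁻¹ᵁ U from hle _)) h1
    rwa [res_res, QC.res_self, res_res] at h2
  -- it lands in the chart
  have hhW : ∀ z, h z ∈ W₀ := by
    intro z
    have hzU : h z ∈ π ⁻¹ᵁ U := show z ∈ h ⁻¹ᵁ (π ⁻¹ᵁ U) from hhU ▸ trivial
    obtain ⟨V₀, e₀, hzV₀, he₀⟩ := TMul.exists_isGen (isInvertible hP) (h z)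
    let V := V₀ ⊓ π ⁻¹ᵁ U
    have hVU : V ≤ π ⁻¹ᵁ U := inf_le_right
    obtain ⟨c, hc⟩ := (he₀ V inf_le_left).2 (res O hVU (sec' π q U (t k)))
    have h1 := congrArg (fun a => e.hom.app (h ⁻¹ᵁ V) (OmegaSh.pullSect h O V a)) hc
    simp only [pullSect_smul, pullSect_res, TMul.app_smul] at h1
    rw [← app_res e.hom, ← app_res e.hom, hval, res_res, hyk] at h1
    generalize res (Coh.structureModule T) _ (e.hom.app (h ⁻¹ᵁ V₀) _) = u at h1
    change (show Γ(T, h ⁻¹ᵁ V) from h.app V c) * (show Γ(T, h ⁻¹ᵁ V) from u) =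
      resO T (le_top : h ⁻¹ᵁ V ≤ ⊤) 1 at h1
    rw [map_one] at h1
    have hu : IsUnit (h.app V c) := IsUnit.of_mul_eq_one _ h1
    have hz : z ∈ h ⁻¹ᵁ P.basicOpen c := by
      rw [Scheme.preimage_basicOpen, T.basicOpen_of_isUnit hu]
      exact ⟨hzV₀, hzU⟩
    refine le_W q t k ((P.basicOpen_le c).trans inf_le_right) ?_ hz
    intro V' hV'
    have hV'0 : V' ≤ V₀ := hV'.trans ((P.basicOpen_le c).trans inf_le_left)
    obtain ⟨v, hv⟩ : IsUnit (resO P (hV'.trans (P.basicOpen_le c)) c) := by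
      rw [← resO_resO hV' (P.basicOpen_le c)]
      exact (RingedSpace.isUnit_res_basicOpen _ c).map _
    have h2 := congrArg (res O (hV'.trans (P.basicOpen_le c))) hc
    simp only [res_smul, res_res] at h2
    rw [← hv] at h2
    simp only [res_res, ← h2, smul_smul]
    exact (he₀ V' hV'0).comp v.mulRight.bijective
  let h₀ : T ⟶ W₀.toScheme := IsOpenImmersion.lift W₀.ι h (by
    rw [Scheme.Opens.range_ι]
    rintro _ ⟨z, rfl⟩
    exact hhW z)
  have hh₀ : h₀ ≫ W₀.ι = h := IsOpenImmersion.lift_fac _ _ _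
  refine ⟨h₀, by rw [hh₀, hh], fun l => ?_, fun b hbg hby => ?_⟩
  · exact appTop_eq h₀ hh₀ (eq_top_iff.2 fun z _ => hhW z) _ _
      (pulled_coord h e.hom (W_le q t k) (co_smul q t k l) _ (by rw [hval k, hyk]) (hval _))
  have h2 : b ≫ h = W₀.ι := by
    let L := (Scheme.Modules.pullback W₀.ι).obj O
    let s' := bc q W₀.ι rfl (𝟙 L)
    haveI : Epi s' := by
      haveI := hP.epi
      haveI : (Scheme.Modules.pullback W₀.ι).PreservesEpimorphisms :=
        CategoryTheory.Functor.preservesEpimorphisms_of_adjunction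
          (Scheme.Modules.pullbackPushforwardAdjunction W₀.ι)
      dsimp only [s', bc]
      infer_instance
    obtain ⟨ω, hω⟩ := exists_unitIso (isGen_gk q t k)
    let e₂ := PicLoc.pullbackStructureIso b ≪≫ ω
    have hb : b ≫ g = W₀.ι ≫ π := hbg
    refine hom_unique hP (CurveRR.isFinLocFreeOfRank_one (PicLoc.isInvertible_pullback _ (isInvertible hP))) s'
      (h := b ≫ h) (h' := W₀.ι) (by rw [Category.assoc, hh, hb]) rfl
      (((Scheme.Modules.pullbackComp b h).app O).symm ≪≫ (Scheme.Modules.pullback b).mapIso e ≪≫ e₂) (Iso.refl L)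
      ((bc_comp' q h hh b hb e.hom e₂.hom).symm.trans ?_) rfl
    have hfull : (W₀.ι ≫ π) ⁻¹ᵁ U = ⊤ := eq_top_iff.2 fun x _ => W_le q t k x.2
    refine hom_ext_frame (ht.pullback (W₀.ι ≫ π)) hfull fun l => ?_
    change sec' (W₀.ι ≫ π) _ U (t l) = sec' (W₀.ι ≫ π) s' U (t l)
    rw [he, sec'_bc', sec'_bc']
    rw [show sec' g s U (t l) = res (Coh.structureModule T) le_top (show Γ(Coh.structureModule T, ⊤) from y l)
      from hs l, pullSect_res]
    change res L _ (ω.hom.app _ ((PicLoc.pullbackStructureIso b).hom.app _ (res _ _ _))) = res L _ (OmegaSh.pullSect _ O _ _)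
    rw [← app_res (PicLoc.pullbackStructureIso b).hom, pullbackStructureIso_pullSect, ← app_res ω.hom, res_res]
    have hV : (W₀.ι ≫ π) ⁻¹ᵁ U ≤ W₀.ι ⁻¹ᵁ W₀ := fun x _ => x.2
    refine (app_res ω.hom _ _).trans ((app_one ω.hom hV (b.appTop (y l))).trans ?_)
    rw [hω, hby]
    have hmain := congrArg (fun a => res L hV (OmegaSh.pullSect W₀.ι O (W q t k) a)) (co_smul q t k l)
    simp only [pullSect_smul, res_smul, pullSect_res, res_res] at hmain
    refine Eq.trans ?_ (hmain.trans (res_res L _ _ _))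
    exact congrArg (· • _) (res_topIso hV (co q t k l))
  rw [← cancel_mono W₀.ι, Category.assoc, hh₀, Category.id_comp]
  exact h2

lemma toSpec_app {A : Type u} [CommRing A] (Wo : P.Opens) (f : A →+* Γ(P, Wo)) (a : A) :
    (Wo.toSpecΓ ≫ Spec.map (CommRingCat.ofHom f)).appTop ((Scheme.ΓSpecIso (CommRingCat.of A)).inv a) =
      Wo.topIso.inv (f a) := by
  have h1 : (Scheme.ΓSpecIso (CommRingCat.of A)).inv ≫ (Wo.toSpecΓ ≫ Spec.map (CommRingCat.ofHom f)).appTop =
      CommRingCat.ofHom f ≫ Wo.topIso.inv := by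
    simp only [Scheme.Hom.comp_appTop, Scheme.Opens.toSpecΓ_appTop]
    rw [← Category.assoc, ← Category.assoc, ← Scheme.ΓSpecIso_inv_naturality, Category.assoc, Category.assoc,
      Iso.inv_hom_id_assoc]
  have h := ConcreteCategory.congr_hom h1 a
  simp only [CommRingCat.comp_apply, CommRingCat.hom_ofHom] at h
  exact h

lemma eq_id_of_C_X {R : Type u} [CommRing R] {σ : Type} (u : Spec (CommRingCat.of (MvPolynomial σ R)) ⟶
      Spec (CommRingCat.of (MvPolynomial σ R)))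
    (hC : u ≫ Spec.map (CommRingCat.ofHom (MvPolynomial.C : R →+* MvPolynomial σ R)) =
      Spec.map (CommRingCat.ofHom (MvPolynomial.C : R →+* MvPolynomial σ R)))
    (hX : ∀ i, u.appTop ((Scheme.ΓSpecIso (CommRingCat.of (MvPolynomial σ R))).inv (MvPolynomial.X i)) =
      (Scheme.ΓSpecIso (CommRingCat.of (MvPolynomial σ R))).inv (MvPolynomial.X i)) :
    u = 𝟙 _ := by
  refine AlgebraicGeometry.ext_to_Spec (CommRingCat.hom_ext (MvPolynomial.ringHom_ext (fun r => ?_) fun i => ?_))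
  · have h3 := congrArg (fun f => (Scheme.ΓSpecIso (CommRingCat.of R)).inv ≫ Scheme.Hom.appTop f) hC
    simp only [Scheme.Hom.comp_appTop] at h3
    rw [← Scheme.ΓSpecIso_inv_naturality, ← Category.assoc, ← Scheme.ΓSpecIso_inv_naturality, Category.assoc] at h3
    refine (ConcreteCategory.congr_hom h3 r).trans ?_
    change _ = Scheme.Hom.appTop (𝟙 (Spec (CommRingCat.of (MvPolynomial σ R))))
      ((Scheme.ΓSpecIso (CommRingCat.of (MvPolynomial σ R))).inv (MvPolynomial.C r))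
    rw [Scheme.Hom.id_appTop]
    rfl
  · change u.appTop ((Scheme.ΓSpecIso (CommRingCat.of (MvPolynomial σ R))).inv (MvPolynomial.X i)) =
      Scheme.Hom.appTop (𝟙 (Spec (CommRingCat.of (MvPolynomial σ R))))
      ((Scheme.ΓSpecIso (CommRingCat.of (MvPolynomial σ R))).inv (MvPolynomial.X i))
    rw [Scheme.Hom.id_appTop, hX]
    rfl

theorem chart (hP : KRR.IsProjBundle π E O q) (hU : IsAffineOpen U) (ht : TMul.IsFrame t) :
    IsAffineOpen (W q t k) ∧ Function.Bijective (ev q t k) := by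
  classical
  let W₀ := W q t k
  let A := MvPolynomial (Fin m) Γ(S, U)
  let T := Spec (CommRingCat.of A)
  let g : T ⟶ S := Spec.map (CommRingCat.ofHom (MvPolynomial.C : Γ(S, U) →+* A)) ≫ hU.fromSpec
  have hgU : g ⁻¹ᵁ U = ⊤ := by
    rw [Scheme.Hom.comp_preimage, hU.fromSpec_preimage_self]
    rfl
  let γ : A →+* Γ(T, ⊤) := (Scheme.ΓSpecIso (CommRingCat.of A)).inv.hom
  obtain ⟨y, hyk, hyi⟩ : ∃ y : Fin (m + 1) → Γ(T, ⊤), y k = 1 ∧ ∀ i, y (k.succAbove i) = γ (MvPolynomial.X i) :=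
    ⟨k.insertNth 1 fun i => γ (MvPolynomial.X i), Fin.insertNth_apply_same _ _ _,
      fun i => Fin.insertNth_apply_succAbove _ _ _ _⟩
  obtain ⟨h₀, hh, hy, huniq⟩ := exists_lift hP ht g hgU y hyk
  let b : W₀.toScheme ⟶ T := W₀.toSpecΓ ≫ Spec.map (CommRingCat.ofHom (ev q t k))
  have hC : CommRingCat.ofHom (MvPolynomial.C : Γ(S, U) →+* A) ≫ CommRingCat.ofHom (ev q t k) =
      π.appLE U W₀ (W_le q t k) := by
    ext r
    exact MvPolynomial.eval₂Hom_C _ _ r
  have hbg : b ≫ g = W₀.ι ≫ π := by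
    simp only [b, g, Category.assoc]
    rw [← Spec.map_comp_assoc, hC, Scheme.Opens.toSpecΓ_SpecMap_appLE_assoc, ← hU.isoSpec_hom, hU.isoSpec_hom_fromSpec,
      Scheme.Hom.resLE_comp_ι]
  have hbapp : ∀ a, b.appTop (γ a) = W₀.topIso.inv (ev q t k a) := fun a => toSpec_app W₀ (ev q t k) a
  have hby : ∀ l, b.appTop (y l) = W₀.topIso.inv (co q t k l) := by
    intro l
    rcases Fin.eq_self_or_eq_succAbove k l with rfl | ⟨i, rfl⟩
    · rw [hyk, co_self, map_one, map_one]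
    · rw [hyi, hbapp]
      exact congrArg _ (MvPolynomial.eval₂Hom_X' _ _ i)
  have h2' : b ≫ h₀ = 𝟙 W₀.toScheme := huniq b hbg hby
  have hg' : (h₀ ≫ b) ≫ g = g := by rw [Category.assoc, hbg, ← Category.assoc, hh]
  have h1 : h₀ ≫ b = 𝟙 T := by
    refine eq_id_of_C_X (h₀ ≫ b) ?_ fun i => ?_
    · rw [← cancel_mono hU.fromSpec, Category.assoc]
      exact hg'
    · rw [Scheme.Hom.comp_appTop, CommRingCat.comp_apply]
      change h₀.appTop (b.appTop (γ (MvPolynomial.X i))) = γ (MvPolynomial.X i)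
      rw [← hyi i, hby, hy]
  haveI : IsIso b := ⟨h₀, h2', h1⟩
  refine ⟨IsAffine.of_isIso b, ?_⟩
  have hinj : (fun a => W₀.topIso.inv (ev q t k a)) = fun a => b.appTop (γ a) := funext fun a => (hbapp a).symm
  have hbij : Function.Bijective fun a => W₀.topIso.inv (ev q t k a) := by
    rw [hinj]
    exact (ConcreteCategory.bijective_of_isIso b.appTop).comp
      (ConcreteCategory.bijective_of_isIso (Scheme.ΓSpecIso (CommRingCat.of A)).inv)
  exact (ConcreteCategory.bijective_of_isIso W₀.topIso.inv).of_comp_iff' _ |>.1 hbij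

end Groth.Agent.PBundle

end
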